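import Groth.Agent.LocCoh.AdjDepth
import Groth.Agent.LocCoh.DepthVanishing
import Groth.Agent.LocCoh.Connected
import Groth.Agent.Depth.CM

/-!
# Grade facts: Ext vanishing, CM rings, regular sequences
-/

universe u

open CategoryTheory Limits RingTheory.Sequence
open scoped Pointwise

namespace Groth.Agent.LocCohSweep

open LocCoh.AdjDepth

variable {R : Type u} [CommRing R] [IsNoetherianRing R]

theorem isCohenMacaulayRing_iff_grade :
    LocCoh.IsCohenMacaulayRing R ↔ ∀ a : Ideal R, a ≠ ⊤ → LocCoh.idealDepth a R = a.height := by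
  have key : ∀ (p : Ideal R) [p.IsPrime], LocCoh.IsCohenMacaulayLocalRing (Localization.AtPrime p) →
      LocCoh.depth (Localization.AtPrime p) (LocalizedModule p.primeCompl R) = p.height := fun p _ h => by
    haveI := h
    refine (show LocCoh.depth (Localization.AtPrime p) (Localization.AtPrime p) = _ from ?_)
    refine WithBot.coe_injective ?_
    rw [← LocCoh.IsCohenMacaulayLocalRing.supportDim_eq_depth (R := Localization.AtPrime p),
      Module.supportDim_self_eq_ringKrullDim, IsLocalization.AtPrime.ringKrullDim_eq_height p]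
  constructor
  · intro h a ha
    rw [Depth.idealDepth_eq_iInf_depth]
    refine le_antisymm ?_ (le_iInf₂ fun P hP => ?_)
    · obtain ⟨g, hg⟩ := ENat.ne_top_iff_exists.mp (Ideal.height_ne_top (I := a) ha)
      obtain ⟨Q, hQ, haQ, hQh⟩ := Ideal.exists_isPrime_height_eq hg.symm
      refine iInf₂_le_of_le ⟨Q, hQ⟩ haQ ?_
      rw [key Q (h.isCohenMacaulayLocalRing_localization Q), hQh, hg]
    · rw [key P.asIdeal (h.isCohenMacaulayLocalRing_localization P.asIdeal)]
      exact Ideal.height_mono hP
  · intro h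
    refine { isCohenMacaulayLocalRing_localization := fun p _ => ?_ }
    haveI : Nontrivial (Localization.AtPrime p) := inferInstance
    rw [Depth.isCohenMacaulayLocalRing_iff]
    refine le_antisymm ?_ Depth.depth_le_supportDim
    rw [Module.supportDim_self_eq_ringKrullDim, IsLocalization.AtPrime.ringKrullDim_eq_height p,
      WithBot.coe_le_coe, ← h p (Ideal.IsPrime.ne_top inferInstance)]
    exact Depth.idealDepth_le_depth_localizedModule p (le_refl p)

theorem depth_le_add_ringKrullDim [IsLocalRing R] (M : Type u) [AddCommGroup M] [Module R M]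
    [Module.Finite R M] (P : Ideal R) [P.IsPrime] :
    ((LocCoh.depth R M : ℕ∞) : WithBot ℕ∞) ≤
      (LocCoh.depth (Localization.AtPrime P) (LocalizedModule P.primeCompl M) : ℕ∞) + ringKrullDim (R ⧸ P) := by
  have h1 := Depth.idealDepth_le_depth_localizedModule (I := IsLocalRing.maximalIdeal R) (M := M)
    (IsLocalRing.maximalIdeal R) le_rfl
  have h2 := depth_le_depth_add_height M (IsLocalRing.le_maximalIdeal (Ideal.IsPrime.ne_top
    (inferInstance : P.IsPrime)))
  have hm : ((((IsLocalRing.maximalIdeal R).map (Ideal.Quotient.mk P)).height : ℕ∞) : WithBot ℕ∞) ≤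
      ringKrullDim (R ⧸ P) := by
    refine Ideal.height_le_ringKrullDim_of_ne_top ?_
    intro h
    have h' := congrArg (Ideal.comap (Ideal.Quotient.mk P)) h
    rw [Ideal.comap_map_of_surjective' _ Ideal.Quotient.mk_surjective, Ideal.comap_top, Ideal.mk_ker,
      sup_eq_left.2 (IsLocalRing.le_maximalIdeal (Ideal.IsPrime.ne_top inferInstance))] at h'
    exact (IsLocalRing.maximalIdeal.isMaximal R).ne_top h'
  refine (WithBot.coe_le_coe.2 (h1.trans h2)).trans ?_
  rw [WithBot.coe_add]
  exact add_le_add le_rfl hm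

/-- Ischebeck. -/
theorem subsingleton_ext_of_lt_depth [IsLocalRing R] (M N : Type u) [AddCommGroup M] [Module R M]
    [AddCommGroup N] [Module R N] [Module.Finite R M] [Module.Finite R N] (d r i : ℕ)
    (hd : LocCoh.depth R M = d) (hr : Module.supportDim R N = r) (hi : i + r < d) :
    Subsingleton (Abelian.Ext (ModuleCat.of R N) (ModuleCat.of R M) i) := by
  have hle : ((i + 1 : ℕ) : ℕ∞) ≤ LocCoh.idealDepth (Module.annihilator R N) M := by
    rw [Depth.idealDepth_eq_iInf_depth]
    refine le_iInf₂ fun P hP => ?_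
    have h := depth_le_add_ringKrullDim M P.asIdeal
    have h2 : ringKrullDim (R ⧸ P.asIdeal) ≤ (r : WithBot ℕ∞) := by
      rw [← hr, Module.supportDim_eq_ringKrullDim_quotient_annihilator]
      exact ringKrullDim_le_of_surjective _ (Ideal.Quotient.factor_surjective hP)
    have h3 := h.trans (add_le_add le_rfl h2)
    rw [hd] at h3
    generalize LocCoh.depth (Localization.AtPrime P.asIdeal) (LocalizedModule P.asIdeal.primeCompl M) = δ at h3 ⊢
    induction δ using ENat.recTopCoe with
    | top => exact le_top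
    | coe δ =>
      have h4 : (d : ℕ∞) ≤ ((δ + r : ℕ) : ℕ∞) := by exact_mod_cast h3
      rw [Nat.cast_le] at h4 ⊢
      omega
  exact LocCoh.subsingleton_ext_of_forall_subsingleton_H (i + 1) (ModuleCat.of R M)
    ((LocCoh.le_idealDepth_iff_H _ M (i + 1)).1 hle) (ModuleCat.of R N) 1 (by rw [pow_one]) i
    (Nat.lt_succ_self i)

theorem le_idealDepth_add_one [IsLocalRing R] (M : Type u) [AddCommGroup M] [Module R M]
    [Module.Finite R M] (J : Ideal R) {x : R} (hx : x ∈ IsLocalRing.maximalIdeal R) :
    LocCoh.idealDepth (J ⊔ Ideal.span {x}) M ≤ LocCoh.idealDepth J M + 1 := by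
  rw [Depth.idealDepth_eq_iInf_depth (I := J)]
  rcases eq_or_ne (⨅ (p : PrimeSpectrum R) (_ : J ≤ p.asIdeal),
    LocCoh.depth (Localization.AtPrime p.asIdeal) (LocalizedModule p.asIdeal.primeCompl M)) ⊤ with h | h
  · rw [h, top_add]; exact le_top
  obtain ⟨e, he⟩ := ENat.ne_top_iff_exists.mp h
  obtain ⟨q, hq, hle⟩ : ∃ q : PrimeSpectrum R, J ≤ q.asIdeal ∧
      LocCoh.depth (Localization.AtPrime q.asIdeal) (LocalizedModule q.asIdeal.primeCompl M) ≤ e := by
    by_contra hcon
    push Not at hcon
    have : ((e + 1 : ℕ) : ℕ∞) ≤ ⨅ (p : PrimeSpectrum R) (_ : J ≤ p.asIdeal),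
        LocCoh.depth (Localization.AtPrime p.asIdeal) (LocalizedModule p.asIdeal.primeCompl M) :=
      le_iInf₂ fun p hp => Order.add_one_le_of_lt (hcon p hp)
    rw [← he, Nat.cast_le] at this
    omega
  rw [← he]
  have hne : q.asIdeal ⊔ Ideal.span {x} ≤ IsLocalRing.maximalIdeal R := sup_le
    (IsLocalRing.le_maximalIdeal q.2.ne_top) ((Ideal.span_singleton_le_iff_mem _).2 hx)
  obtain ⟨P, hP, -⟩ := Ideal.exists_minimalPrimes_le (J := IsLocalRing.maximalIdeal R) hne
  haveI : P.IsPrime := hP.1.1
  have hqP : q.asIdeal ≤ P := le_sup_left.trans hP.1.2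
  have h1 : (P.map (Ideal.Quotient.mk q.asIdeal)).height ≤ 1 :=
    Ideal.map_height_le_one_of_mem_minimalPrimes hP
  calc LocCoh.idealDepth (J ⊔ Ideal.span {x}) M
      ≤ LocCoh.depth (Localization.AtPrime P) (LocalizedModule P.primeCompl M) :=
        Depth.idealDepth_le_depth_localizedModule P (sup_le (hq.trans hqP) (le_sup_right.trans hP.1.2))
    _ ≤ _ := depth_le_depth_add_height M hqP
    _ ≤ (e : ℕ∞) + 1 := add_le_add hle h1

theorem idealDepth_eq_length_iff [IsLocalRing R] (M : Type u) [AddCommGroup M] [Module R M]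
    [Module.Finite R M] [Nontrivial M] : ∀ (xs : List R), (∀ x ∈ xs, x ∈ IsLocalRing.maximalIdeal R) →
      (((xs.length : ℕ∞) ≤ LocCoh.idealDepth (Ideal.ofList xs) M) ↔ IsWeaklyRegular M xs) := by
  intro xs
  induction xs using List.reverseRecOn with
  | nil => intro _; exact ⟨fun _ => IsWeaklyRegular.nil R M, fun _ => by simp⟩
  | append_singleton ys x ih =>
    intro hmem
    have hys : ∀ y ∈ ys, y ∈ IsLocalRing.maximalIdeal R := fun y hy => hmem y (List.mem_append_left _ hy)
    have hx : x ∈ IsLocalRing.maximalIdeal R := hmem x (List.mem_append_right _ (List.mem_singleton_self x))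
    constructor
    · intro h
      have hofl : Ideal.ofList (ys ++ [x]) = Ideal.ofList ys ⊔ Ideal.span {x} := by
        rw [Ideal.ofList_append, Ideal.ofList_singleton]
      have h1 : (ys.length : ℕ∞) + 1 ≤ LocCoh.idealDepth (Ideal.ofList ys) M + 1 := by
        refine le_trans (le_of_eq ?_) ((h.trans_eq (by rw [hofl])).trans (le_idealDepth_add_one M _ hx))
        simp
      have hreg := (ih hys).1 ((ENat.add_le_add_iff_right ENat.one_ne_top).1 h1)
      refine (isWeaklyRegular_append_iff M ys [x]).2 ⟨hreg, ?_⟩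
      refine (isWeaklyRegular_cons_iff _ x []).2 ⟨?_, IsWeaklyRegular.nil R _⟩
      let M' := M ⧸ (Ideal.ofList ys • ⊤ : Submodule R M)
      have hd := Depth.idealDepth_quotient_add_length (I := Ideal.ofList (ys ++ [x])) ys M hreg fun r hr =>
        Ideal.subset_span (List.mem_append_left _ hr)
      have h2 : 1 ≤ LocCoh.idealDepth (Ideal.ofList (ys ++ [x])) M' := by
        rw [← hd] at h
        refine (ENat.add_le_add_iff_right (ENat.natCast_ne_top ys.length)).1 ?_
        refine le_trans (le_of_eq ?_) h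
        simp [add_comm]
      rw [Depth.one_le_idealDepth_iff] at h2
      rw [isSMulRegular_iff_right_eq_zero_of_smul]
      intro m hm
      by_contra hm0
      have hN : x ∈ (⋃ p ∈ associatedPrimes R M', (p : Set R)) := by
        rw [biUnion_associatedPrimes_eq_zero_divisors]
        exact ⟨m, hm0, hm⟩
      obtain ⟨p, hp, hxp⟩ := Set.mem_iUnion₂.1 hN
      refine h2 p hp ?_
      rw [hofl]
      refine sup_le ?_ ((Ideal.span_singleton_le_iff_mem _).2 hxp)
      refine le_trans ?_ (Depth.annihilator_le_associatedPrime hp)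
      intro r hr
      refine Module.mem_annihilator.2 fun z => ?_
      obtain ⟨z, rfl⟩ := Submodule.mkQ_surjective _ z
      rw [← map_smul, Submodule.mkQ_apply, Submodule.Quotient.mk_eq_zero]
      exact Submodule.smul_mem_smul hr trivial
    · intro h
      exact Depth.le_idealDepth_of_isWeaklyRegular h fun r hr => Ideal.subset_span hr

theorem idealDepth_span_eq_length_iff [IsLocalRing R] (M : Type u) [AddCommGroup M] [Module R M]
    [Module.Finite R M] [Nontrivial M] (xs : List R) (hxs : ∀ x ∈ xs, x ∈ IsLocalRing.maximalIdeal R) :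
    LocCoh.idealDepth (Ideal.ofList xs) M = xs.length ↔ IsWeaklyRegular M xs := by
  refine ⟨fun h => (idealDepth_eq_length_iff M xs hxs).1 h.ge, fun h => ?_⟩
  refine le_antisymm ?_ ((idealDepth_eq_length_iff M xs hxs).2 h)
  rw [← Depth.idealDepth_quotient_add_length (I := Ideal.ofList xs) xs M h fun r hr => Ideal.subset_span hr]
  refine le_trans (add_le_add (le_of_eq ?_) le_rfl) (le_of_eq (zero_add _))
  have hne : (Ideal.ofList xs • ⊤ : Submodule R M) ≠ ⊤ := by
    refine Depth.smul_top_ne_top_of_le_maximalIdeal ?_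
    exact Ideal.span_le.2 hxs
  haveI : Nontrivial (M ⧸ (Ideal.ofList xs • ⊤ : Submodule R M)) := Submodule.Quotient.nontrivial_iff.2 hne
  rw [Depth.idealDepth_eq_zero_iff]
  obtain ⟨p, hp⟩ := associatedPrimes.nonempty R (M ⧸ (Ideal.ofList xs • ⊤ : Submodule R M))
  refine ⟨p, hp, le_trans ?_ (Depth.annihilator_le_associatedPrime hp)⟩
  intro r hr
  refine Module.mem_annihilator.2 fun z => ?_
  obtain ⟨z, rfl⟩ := Submodule.mkQ_surjective _ z
  rw [← map_smul, Submodule.mkQ_apply, Submodule.Quotient.mk_eq_zero]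
  exact Submodule.smul_mem_smul hr trivial

end Groth.Agent.LocCohSweep
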