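import Groth.Agent.LocCohSweep.TopDeg
import Groth.Agent.RegLoc.SymbolicPower
import Groth.Agent.RegLoc.CompleteTrans
import Groth.Agent.RegLoc.Completion
import Groth.Agent.Adic.Basic
import Groth.Agent.Nagata.Normalization
import Groth.Agent.Gor.Ring
import Groth.Agent.Depth.Local
import Groth.Agent.S11641
import Groth.Agent.S11642
import Groth.Agent.S5763
import Groth.Agent.S9829
import Mathlib

/-!
# The Hartshorne-Lichtenbaum vanishing theorem
-/

set_option autoImplicit false

universe u

open IsLocalRing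

namespace Groth.Agent.LocCohSweep.HLVT

open Groth.Agent.RegLoc

section Chevalley

variable {A : Type u} [CommRing A] [IsNoetherianRing A] [IsLocalRing A]

theorem isArtinian_quot_pow (s : ℕ) : IsArtinianRing (A ⧸ maximalIdeal A ^ s) := by
  rw [isArtinianRing_iff_isNoetherianRing_krullDimLE_zero]
  refine ⟨inferInstance, Ring.krullDimLE_zero_iff.mpr fun q hq => ?_⟩
  have := Ideal.IsPrime.comap (f := Ideal.Quotient.mk (maximalIdeal A ^ s)) (K := q)
  have hle : maximalIdeal A ≤ q.comap (Ideal.Quotient.mk (maximalIdeal A ^ s)) :=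
    Ideal.IsPrime.le_of_pow_le (n := s) fun x hx => by
      rw [Ideal.mem_comap, Ideal.Quotient.eq_zero_iff_mem.mpr hx]; exact q.zero_mem
  have hm : (q.comap (Ideal.Quotient.mk (maximalIdeal A ^ s))).IsMaximal :=
    ((maximalIdeal.isMaximal A).eq_of_le this.ne_top hle) ▸ maximalIdeal.isMaximal A
  rw [← Ideal.map_comap_of_surjective _ Ideal.Quotient.mk_surjective q]
  refine (Ideal.map_eq_top_or_isMaximal_of_surjective _ Ideal.Quotient.mk_surjective hm).resolve_left ?_
  rw [Ideal.map_comap_of_surjective _ Ideal.Quotient.mk_surjective q]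
  exact hq.ne_top

theorem iInf_sup_pow (J : Ideal A) (s₀ : ℕ) {L : A}
    (hL : ∀ s, s₀ ≤ s → L ∈ J ⊔ maximalIdeal A ^ s) : L ∈ J := by
  have h0 : J.mkQ L ∈ (⨅ m, maximalIdeal A ^ m • ⊤ : Submodule A (A ⧸ J)) := by
    rw [Submodule.mem_iInf]
    intro m
    obtain ⟨a, ha, b, hb, hab⟩ := Submodule.mem_sup.mp (hL (max s₀ m) (le_max_left _ _))
    have hb' : b ∈ (maximalIdeal A ^ m • ⊤ : Submodule A A) := by
      rw [smul_eq_mul, Ideal.mul_top]
      exact Ideal.pow_le_pow_right (le_max_right _ _) hb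
    have h3 := Submodule.mem_map_of_mem (f := J.mkQ) hb'
    rw [Submodule.map_smul''] at h3
    have : J.mkQ L = J.mkQ b := by
      rw [Submodule.mkQ_apply, Submodule.mkQ_apply, Submodule.Quotient.eq, ← hab, add_sub_cancel_right]
      exact ha
    rw [this]
    exact Submodule.smul_mono le_rfl le_top h3
  rw [Ideal.iInf_pow_smul_eq_bot_of_le_jacobson _ (maximalIdeal_le_jacobson _),
    Submodule.mem_bot] at h0
  exact (Submodule.Quotient.mk_eq_zero J).mp h0

/-- Chevalley's lemma. -/
theorem chevalley [IsAdicComplete (maximalIdeal A) A] (I : ℕ → Ideal A) (hI : Antitone I)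
    (h0 : ∀ x, (∀ n, x ∈ I n) → x = 0) (s₀ : ℕ) : ∃ l, I l ≤ maximalIdeal A ^ s₀ := by
  set m := maximalIdeal A with hm
  have hstab : ∀ s, ∃ N, ∀ l, I N ⊔ m ^ s ≤ I l ⊔ m ^ s := fun s => by
    have := isArtinian_quot_pow (A := A) s
    let f : ℕ →o (Ideal (A ⧸ m ^ s))ᵒᵈ := ⟨fun l => OrderDual.toDual ((I l).map (Ideal.Quotient.mk (m ^ s))),
      fun a b hab => Ideal.map_mono (hI hab)⟩
    obtain ⟨N, hN⟩ := IsArtinian.monotone_stabilizes f
    refine ⟨N, fun l => ?_⟩
    rcases le_total N l with h | h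
    · have h1 : (I N).map (Ideal.Quotient.mk (m ^ s)) = (I l).map (Ideal.Quotient.mk (m ^ s)) :=
        OrderDual.toDual.injective (hN l h)
      have h2 := congrArg (Ideal.comap (Ideal.Quotient.mk (m ^ s))) h1
      rw [Ideal.comap_map_of_surjective _ Ideal.Quotient.mk_surjective,
        Ideal.comap_map_of_surjective _ Ideal.Quotient.mk_surjective, ← RingHom.ker_eq_comap_bot,
        Ideal.mk_ker] at h2
      exact h2.le
    · exact sup_le_sup_right (hI h) _
  choose N hN using hstab
  refine ⟨N s₀, fun x hx => ?_⟩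
  have step : ∀ (k : ℕ) (a : A), a ∈ I (N (s₀ + k)) ⊔ m ^ (s₀ + k) →
      ∃ b, b ∈ I (N (s₀ + (k + 1))) ⊔ m ^ (s₀ + (k + 1)) ∧ b - a ∈ m ^ (s₀ + k) := fun k a ha => by
    obtain ⟨b, hb, c, hc, hbc⟩ := Submodule.mem_sup.mp (hN (s₀ + k) (N (s₀ + (k + 1))) ha)
    exact ⟨b, Submodule.mem_sup_left hb, by rw [← hbc, sub_add_cancel_left]; exact neg_mem hc⟩
  choose next hnext hnext' using step
  let seq : (k : ℕ) → {a : A // a ∈ I (N (s₀ + k)) ⊔ m ^ (s₀ + k)} := fun k =>
    Nat.rec ⟨x, Submodule.mem_sup_left hx⟩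
      (fun k p => ⟨next k p.1 p.2, hnext k p.1 p.2⟩) k
  let g : ℕ → A := fun n => (seq (n - s₀)).1
  have hgk : ∀ k, g (s₀ + k) = (seq k).1 := fun k => congrArg (fun j => (seq j).1) (by omega)
  have hg : ∀ n, g (n + 1) - g n ∈ m ^ n := fun n => by
    rcases le_or_gt s₀ n with h | h
    · obtain ⟨k, rfl⟩ := Nat.exists_eq_add_of_le h
      rw [add_assoc, hgk, hgk]
      exact hnext' k (seq k).1 (seq k).2
    · have h1 : g (n + 1) = g n := congrArg (fun j => (seq j).1) (by omega)
      rw [h1, sub_self]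
      exact zero_mem _
  have hg' : ∀ a b, a ≤ b → g b - g a ∈ m ^ a := fun a b hab => by
    induction b, hab using Nat.le_induction with
    | base => simp
    | succ n hn ih =>
      rw [← sub_add_sub_cancel (g (n + 1)) (g n) (g a)]
      exact add_mem (Ideal.pow_le_pow_right hn (hg n)) ih
  obtain ⟨L, hL⟩ := IsPrecomplete.prec (I := m) inferInstance (f := g) fun {a b} hab => by
    rw [SModEq.sub_mem, smul_eq_mul, Ideal.mul_top, ← neg_sub]
    exact neg_mem (hg' a b hab)
  have hL' : ∀ k, (seq k).1 - L ∈ m ^ (s₀ + k) := fun k => by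
    have := hL (s₀ + k)
    rw [SModEq.sub_mem, smul_eq_mul, Ideal.mul_top] at this
    rwa [hgk] at this
  have hL0 : L = 0 := h0 L fun l => iInf_sup_pow (I l) s₀ fun s hs => by
    obtain ⟨k, rfl⟩ := Nat.exists_eq_add_of_le hs
    have h1 : (seq k).1 ∈ I l ⊔ m ^ (s₀ + k) := (sup_le (le_trans le_sup_left (hN _ l)) le_sup_right) (seq k).2
    rw [show L = (seq k).1 - ((seq k).1 - L) by ring]
    exact sub_mem h1 (Submodule.mem_sup_right (hL' k))
  have := hL' 0
  rw [hL0, sub_zero] at this
  exact this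

theorem eq_maximalIdeal_of_lt {p q : Ideal A} [p.IsPrime] (hp : ringKrullDim (A ⧸ p) = 1)
    [hq : q.IsPrime] (h : p < q) : q = maximalIdeal A := by
  by_contra hne
  have h2 : (2 : WithBot ℕ∞) ≤ ringKrullDim (A ⧸ p) := by
    rw [ringKrullDim_quotient]
    let Z := PrimeSpectrum.zeroLocus (R := A) p
    let a : Z := ⟨⟨p, inferInstance⟩, le_refl p⟩
    let c : Z := ⟨⟨q, hq⟩, h.le⟩
    let e : Z := ⟨⟨maximalIdeal A, inferInstance⟩, le_maximalIdeal Ideal.IsPrime.ne_top'⟩
    exact Order.LTSeries.length_le_krullDim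
      (((RelSeries.singleton _ a).snoc c h).snoc e
        (by simp only [RelSeries.last_snoc]; exact lt_of_le_of_ne (le_maximalIdeal hq.ne_top) hne))
  rw [hp] at h2
  exact absurd h2 (by norm_num)

theorem P_antitone (p : Ideal A) [p.IsPrime] : Antitone (Symb.P p) := fun _ _ h =>
  Ideal.comap_mono (Ideal.map_mono (Ideal.pow_le_pow_right h))

theorem eq_zero_of_forall_mem_P [IsDomain A] {p : Ideal A} [p.IsPrime] {x : A}
    (hx : ∀ n, x ∈ Symb.P p n) : x = 0 := by
  have h : algebraMap A (Localization.AtPrime p) x ∈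
      (⨅ n, maximalIdeal (Localization.AtPrime p) ^ n : Ideal (Localization.AtPrime p)) := by
    rw [Submodule.mem_iInf]
    intro n
    rw [← IsLocalization.AtPrime.map_eq_maximalIdeal p (Localization.AtPrime p), ← Ideal.map_pow]
    exact hx n
  rw [Ideal.iInf_pow_eq_bot_of_isLocalRing _ (maximalIdeal.isMaximal _).ne_top, Ideal.mem_bot] at h
  exact (FaithfulSMul.algebraMap_injective A (Localization.AtPrime p)) (h.trans (map_zero _).symm)

/-- Symbolic powers are contained in powers. -/
theorem exists_P_le [IsDomain A] [IsAdicComplete (maximalIdeal A) A] (p : Ideal A) [p.IsPrime]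
    (hp : ringKrullDim (A ⧸ p) = 1) (n : ℕ) : ∃ m, n ≤ m ∧ 1 ≤ m ∧ Symb.P p m ≤ p ^ n := by
  classical
  rcases Nat.eq_zero_or_pos n with rfl | hn
  · exact ⟨1, by omega, le_rfl, by simp⟩
  let C : Ideal A :=
    { carrier := {c | ∀ x ∈ Symb.P p n, c * x ∈ p ^ n}
      zero_mem' := fun x _ => by simp
      add_mem' := fun ha hb x hx => by rw [add_mul]; exact add_mem (ha x hx) (hb x hx)
      smul_mem' := fun c a ha x hx => by
        rw [smul_eq_mul, mul_assoc]; exact Ideal.mul_mem_left _ _ (ha x hx) }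
  obtain ⟨G, hG⟩ := IsNoetherian.noetherian (Symb.P p n)
  have hex : ∀ g : G, ∃ s ∉ p, s * (g : A) ∈ p ^ n := fun g =>
    Symb.mem_P.mp (hG ▸ Submodule.subset_span g.2)
  choose sf hsf hsf' using hex
  let s := ∏ g : G, sf g
  have hs : s ∉ p := fun h => by
    obtain ⟨g, -, hg⟩ := (Ideal.IsPrime.prod_mem_iff).mp h
    exact hsf g hg
  have hsC : s ∈ C := fun x hx => by
    rw [← hG] at hx
    induction hx using Submodule.span_induction with
    | mem y hy =>
      obtain ⟨c, hc⟩ := Finset.dvd_prod_of_mem sf (Finset.mem_univ ⟨y, hy⟩)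
      rw [show s = sf ⟨y, hy⟩ * c from hc, mul_right_comm]
      exact Ideal.mul_mem_right _ _ (hsf' ⟨y, hy⟩)
    | zero => simp
    | add a b _ _ ha hb => rw [mul_add]; exact add_mem ha hb
    | smul c a _ ha => rw [smul_eq_mul, mul_left_comm]; exact Ideal.mul_mem_left _ _ ha
  have hpC : p ^ n ≤ C := fun c hc x _ => Ideal.mul_mem_right _ _ hc
  have hrad : maximalIdeal A ≤ C.radical := by
    rw [Ideal.radical_eq_sInf]
    refine le_sInf ?_
    rintro q ⟨hCq, hq⟩
    have hpq : p < q := lt_of_le_of_ne (hq.le_of_pow_le (hpC.trans hCq))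
      fun e => hs (e ▸ hCq hsC)
    exact (eq_maximalIdeal_of_lt hp hpq).ge
  obtain ⟨t, ht⟩ := Ideal.exists_pow_le_of_le_radical_of_fg hrad (IsNoetherian.noetherian _)
  obtain ⟨c, hc⟩ := (maximalIdeal A).exists_pow_inf_eq_pow_smul (Symb.P p n)
  obtain ⟨l, hl⟩ := chevalley (Symb.P p) (P_antitone p) (fun x hx => eq_zero_of_forall_mem_P hx) (t + c)
  refine ⟨max l n, le_max_right _ _, le_trans hn (le_max_right _ _), fun x hx => ?_⟩
  have h1 : x ∈ (maximalIdeal A ^ (t + c) • ⊤ ⊓ Symb.P p n : Submodule A A) :=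
    ⟨by rw [smul_eq_mul, Ideal.mul_top]; exact hl (P_antitone p (le_max_left _ _) hx),
      P_antitone p (le_max_right _ _) hx⟩
  rw [hc (t + c) (by omega), Nat.add_sub_cancel] at h1
  refine Submodule.smul_induction_on h1 (fun a ha y hy => ?_) fun a b ha hb => add_mem ha hb
  exact ht ha y hy.2

theorem isAdicComplete_of_pow {J : Ideal A} (k : ℕ) (h : IsAdicComplete (J ^ (k + 1)) A) :
    IsAdicComplete J A := by
  have hle : ∀ n, (J ^ (k + 1)) ^ n ≤ J ^ n := fun n => by
    rw [← pow_mul]; exact Ideal.pow_le_pow_right (Nat.le_mul_of_pos_left n k.succ_pos)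
  refine { haus' := fun x hx => ?_, prec' := fun f hf => ?_ }
  · refine IsHausdorff.haus (I := J ^ (k + 1)) inferInstance x fun n => ?_
    rw [← pow_mul]; exact hx _
  · obtain ⟨L, hL⟩ := IsPrecomplete.prec (I := J ^ (k + 1)) inferInstance
      (f := fun n => f ((k + 1) * n)) (fun {a b} hab => by
        rw [← pow_mul]; exact hf (Nat.mul_le_mul_left _ hab))
    exact ⟨L, fun n => (hf (Nat.le_mul_of_pos_left n k.succ_pos)).trans
      ((hL n).mono (Submodule.smul_mono_left (hle n)))⟩

end Chevalley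

open CategoryTheory in
theorem subsingleton_H_of_gorenstein (B : Type u) [CommRing B] [IsDomain B]
    [LocCoh.IsGorensteinLocalRing B] [IsAdicComplete (maximalIdeal B) B] (n : ℕ)
    (hn : ringKrullDim B = n) (P : Ideal B) [P.IsPrime] (hP : ringKrullDim (B ⧸ P) = 1) :
    Subsingleton (LocCoh.H P n B) := by
  refine LocCoh.subsingleton_H_iff.mpr fun k e => ?_
  obtain ⟨l, hkl, hl1, hle⟩ := exists_P_le P hP k
  refine ⟨l, hkl, ?_⟩
  have hPl : Symb.P P l ≤ P := fun y hy => by
    obtain ⟨s, hs, hsy⟩ := Symb.mem_P.mp hy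
    exact (‹P.IsPrime›.mem_or_mem (Ideal.pow_le_self (by omega) hsy)).resolve_left hs
  have hPm : P < maximalIdeal B := lt_of_le_of_ne (le_maximalIdeal Ideal.IsPrime.ne_top') fun e => by
    have : (maximalIdeal B).IsMaximal := inferInstance
    rw [e] at hP
    rw [ringKrullDim_eq_zero_of_isField ((Ideal.Quotient.maximal_ideal_iff_isField_quotient _).mp this)] at hP
    exact zero_ne_one hP
  obtain ⟨x, hxm, hxP⟩ := SetLike.exists_of_lt hPm
  have : Nontrivial (B ⧸ Symb.P P l) := Ideal.Quotient.nontrivial_iff.mpr fun e =>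
    Ideal.IsPrime.ne_top' (top_le_iff.mp (e ▸ hPl))
  have hreg : IsSMulRegular (B ⧸ Symb.P P l) x := by
    refine (injective_iff_map_eq_zero (DistribSMul.toAddMonoidHom (B ⧸ Symb.P P l) x)).mpr fun y hy => ?_
    obtain ⟨y, rfl⟩ := Ideal.Quotient.mk_surjective y
    change Ideal.Quotient.mk _ (x * y) = 0 at hy
    rw [Ideal.Quotient.eq_zero_iff_mem] at hy ⊢
    obtain ⟨s, hs, hsy⟩ := Symb.mem_P.mp hy
    exact Symb.mem_P.mpr ⟨s * x, fun h => (‹P.IsPrime›.mem_or_mem h).elim hs hxP, by rwa [mul_assoc]⟩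
  have hdepth : 0 < _root_.LocCoh.depth B (B ⧸ Symb.P P l) := by
    refine lt_of_lt_of_le (zero_lt_one (α := ℕ∞)) ?_
    exact_mod_cast Depth.le_idealDepth_of_isWeaklyRegular
      (I := maximalIdeal B) ((RingTheory.Sequence.isWeaklyRegular_singleton_iff (B ⧸ Symb.P P l) x).mpr hreg)
      (by simpa using hxm)
  have hz := (S11642.result B n hn (B ⧸ Symb.P P l)).mp hdepth
  have hle' : P ^ l ≤ Symb.P P l := fun y hy => Symb.mem_P.mpr
    ⟨1, fun h => Ideal.IsPrime.ne_top' (P.eq_top_iff_one.mpr h), by rwa [one_mul]⟩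
  have hq : LocCoh.qpow P hkl = LocCoh.qmap.{u, 0} hle' ≫ LocCoh.qmap.{u, 0} hle := by
    refine ModuleCat.hom_ext (LinearMap.ext fun z => ?_)
    obtain ⟨z, rfl⟩ := Submodule.Quotient.mk_surjective _ z
    rfl
  rw [hq, ← Abelian.Ext.mk₀_comp_mk₀_assoc,
    @Subsingleton.elim _ hz ((Abelian.Ext.mk₀ (LocCoh.qmap.{u, 0} hle)).comp e (zero_add n)) 0,
    Abelian.Ext.comp_zero]

/-- The prime case of the theorem for complete domains. -/
theorem subsingleton_H_prime (R : Type u) [CommRing R] [IsDomain R] [IsNoetherianRing R]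
    [IsLocalRing R] [IsAdicComplete (maximalIdeal R) R] (n : ℕ) (hn : ringKrullDim R = n)
    (p : Ideal R) [p.IsPrime] (hp : ringKrullDim (R ⧸ p) = 1) :
    Subsingleton (LocCoh.H p n R) := by
  obtain ⟨Λ, _, _, k, f, -, hinj, hfin, -, hreg, hcpl⟩ := Nagata.Normalization.exists_normalization R
  let A := MvPowerSeries (Fin k) Λ
  have : IsRegularLocalRing A := hreg
  have : IsAdicComplete (maximalIdeal A) A := hcpl
  have : IsDomain A := RegLoc.isDomain A
  have : IsIntegrallyClosed A := S9829.result A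
  letI : Algebra A R := f.toAlgebra
  have : Module.Finite A R := hfin
  have : Module.IsTorsionFree A R := Module.isTorsionFree_iff_algebraMap_injective.mpr hinj
  have : Algebra.IsIntegral A R := Algebra.IsIntegral.of_finite A R
  obtain ⟨b, hb⟩ := S11641.result A R hinj p hp
  let B := Algebra.adjoin A ({b} : Set R)
  have : Module.Finite A B := Module.Finite.of_injective B.val.toLinearMap Subtype.val_injective
  have : IsNoetherianRing B := IsNoetherianRing.of_finite A B
  have : Module.Finite B R := Module.Finite.of_restrictScalars_finite A B R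
  have : Algebra.IsIntegral B R := Algebra.IsIntegral.of_finite B R
  have hBinj : Function.Injective (algebraMap B R) := Subtype.val_injective
  have : IsLocalRing B := by
    refine IsLocalRing.of_unique_max_ideal ⟨(maximalIdeal R).comap (algebraMap B R),
      Ideal.isMaximal_comap_of_isIntegral_of_isMaximal _, fun M hM => ?_⟩
    obtain ⟨Q, hQ, hQM⟩ := Ideal.exists_ideal_over_maximal_of_isIntegral (S := R) M
      (by rw [(RingHom.injective_iff_ker_eq_bot _).mp hBinj]; exact bot_le)
    rw [← hQM, IsLocalRing.eq_maximalIdeal hQ]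
  have hGor : LocCoh.IsGorensteinLocalRing B := by
    have : IsRegularRing A := RegLoc.Homological.isRegularRing
    have h1 := Gor.Ring.isGorensteinRing_of_isRegularRing (Polynomial A)
    have hint : IsIntegral A b := Algebra.IsIntegral.isIntegral b
    have h2 := Gor.Ring.isGorensteinRing_quotient h1 (f := minpoly A b)
      (IsRegular.of_ne_zero (minpoly.ne_zero hint)).left.isSMulRegular
    have h3 : LocCoh.IsGorensteinRing B :=
      Gor.Ring.isGorensteinRing_of_ringEquiv (minpoly.equivAdjoin hint).toRingEquiv h2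
    exact Gor.Ring.gorensteinLocal_of_ring h3
  have : IsAdicComplete (maximalIdeal B) B := by
    have hBA : IsAdicComplete (maximalIdeal A) B := Adic.isAdicComplete_of_finite (maximalIdeal A)
    have hJ : IsAdicComplete ((maximalIdeal A).map (algebraMap A B)) B :=
      (IsAdicComplete.map_algebraMap_iff (I := maximalIdeal A) (M := B)).2 hBA
    have : Algebra.IsIntegral A B := Algebra.IsIntegral.of_finite A B
    have hrad : maximalIdeal B ≤ ((maximalIdeal A).map (algebraMap A B)).radical := by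
      rw [Ideal.radical_eq_sInf]
      refine le_sInf ?_
      rintro q ⟨hq, hqp⟩
      have h1 : q.comap (algebraMap A B) = maximalIdeal A :=
        ((maximalIdeal.isMaximal A).eq_of_le (hqp.comap _).ne_top (Ideal.map_le_iff_le_comap.mp hq)).symm
      have := Ideal.isMaximal_of_isIntegral_of_isMaximal_comap q (h1 ▸ maximalIdeal.isMaximal A)
      rw [IsLocalRing.eq_maximalIdeal this]
    obtain ⟨t, ht⟩ := Ideal.exists_pow_le_of_le_radical_of_fg hrad (IsNoetherian.noetherian _)
    exact isAdicComplete_of_pow t (CompleteTrans.isAdicComplete_of_le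
      ((Ideal.pow_le_pow_right t.le_succ).trans ht))
  have hnB : ringKrullDim B = n := ((S5763.result B R).2 hBinj).symm.trans hn
  let P : Ideal B := p.under B
  have hP : ringKrullDim (B ⧸ P) = 1 := by
    rw [← hp]
    exact ((S5763.result (B ⧸ P) (R ⧸ p)).2 (FaithfulSMul.algebraMap_injective _ _)).symm
  have hvan := subsingleton_H_of_gorenstein B n hnB P hP
  have hR := (LocCoh.subsingleton_H_restrict_iff (B := R) P n (ModuleCat.of R R)).mpr
    (LocCoh.subsingleton_H_ge_dim hnB B (fun q _ _ hq => by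
      rw [Module.support_of_algebra]; intro x hx; simp_all) hvan _ n le_rfl)
  refine (LocCoh.subsingleton_H_iff_of_radical_eq ?_ n (ModuleCat.of R R)).mp hR
  rw [(‹p.IsPrime›).radical]
  refine le_antisymm ((‹p.IsPrime›).radical_le_iff.mpr (Ideal.map_le_iff_le_comap.mpr le_rfl)) ?_
  conv_lhs => rw [← hb]
  refine Ideal.radical_mono (Ideal.span_le.mpr ?_)
  rintro x ⟨hxp, hxB⟩
  exact Ideal.mem_map_of_mem (algebraMap B R) (show (⟨x, hxB⟩ : B) ∈ P from hxp)

/-- The theorem for complete domains. -/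
theorem subsingleton_H_domain (R : Type u) [CommRing R] [IsDomain R] [IsNoetherianRing R]
    [IsLocalRing R] [IsAdicComplete (maximalIdeal R) R] (n : ℕ) (hn : ringKrullDim R = n)
    (a : Ideal R) (ha : 0 < ringKrullDim (R ⧸ a)) : Subsingleton (LocCoh.H a n R) :=
  (LocCohSweep.forall_H_dim_subsingleton_iff n hn).mpr
    (fun p _ hp => subsingleton_H_prime R n hn p hp) a ha

open CategoryTheory in
/-- `dim R/(I + p) ≥ 1` for all top-dimensional components gives vanishing (complete local case). -/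
theorem subsingleton_H_complete (R : Type u) [CommRing R] [IsNoetherianRing R]
    [IsLocalRing R] [IsAdicComplete (maximalIdeal R) R] (d : ℕ) (hd : ringKrullDim R = d)
    (I : Ideal R) (h : ∀ p ∈ minimalPrimes R, ringKrullDim (R ⧸ p) = d →
      1 ≤ ringKrullDim (R ⧸ (I ⊔ p))) (M : Type u) [AddCommGroup M] [Module R M] (i : ℕ)
    (hi : d ≤ i) : Subsingleton (LocCoh.H I i M) := by
  have hprime : ∀ p : PrimeSpectrum R, Subsingleton (LocCoh.H I d (R ⧸ p.asIdeal)) := fun p => by
    have := p.2
    rcases ((ringKrullDim_quotient_le p.1).trans hd.le).eq_or_lt with he | hlt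
    · have hmin : p.asIdeal ∈ minimalPrimes R := by
        refine ⟨⟨p.2, bot_le⟩, fun q hq hqp => ?_⟩
        by_contra hne
        have := hq.1
        have h1 := Depth.ringKrullDim_quotient_succ_le (p := q) (q := p.1)
          (lt_of_le_of_ne hqp fun e => hne (e ▸ le_rfl))
        rw [he] at h1
        have h2 : ((d + 1 : ℕ) : WithBot ℕ∞) ≤ d := by
          push_cast
          exact h1.trans ((ringKrullDim_quotient_le q).trans hd.le)
        exact absurd (Nat.cast_le.mp h2) (Nat.not_succ_le_self d)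
      have hpos := h p.asIdeal hmin he
      let S := R ⧸ p.asIdeal
      have : IsLocalRing S := IsLocalRing.of_surjective' _ Ideal.Quotient.mk_surjective
      have : IsAdicComplete (maximalIdeal S) S := by
        have h1 : IsAdicComplete ((maximalIdeal R).map (algebraMap R S)) S :=
          (IsAdicComplete.map_algebraMap_iff (I := maximalIdeal R) (M := S)).2
            (Adic.isAdicComplete_of_finite (maximalIdeal R))
        rwa [Ideal.Quotient.algebraMap_eq,
          IsLocalRing.map_maximalIdeal_of_surjective _ Ideal.Quotient.mk_surjective] at h1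
      have hS := subsingleton_H_domain S d he (I.map (algebraMap R S)) (by
        refine lt_of_lt_of_le zero_lt_one (hpos.trans_eq ?_)
        rw [Ideal.Quotient.algebraMap_eq, sup_comm]
        exact (ringKrullDim_eq_of_ringEquiv (DoubleQuot.quotQuotEquivQuotSup p.asIdeal I)).symm)
      exact (LocCoh.subsingleton_H_restrict_iff (B := S) I d (ModuleCat.of S S)).mp hS
    · exact LocCoh.subsingleton_H_of_supportDim_lt I d _
        (by rw [Module.supportDim_quotient_eq_ringKrullDim]; exact hlt) d le_rfl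
  refine LocCoh.subsingleton_H_ge_dim hd R (fun q _ _ hq => by
    rw [Module.support_of_algebra]; intro x hx; simp_all) ?_ M i hi
  suffices ∀ (N : Type u) [AddCommGroup N] [Module R N] [Module.Finite R N],
      Subsingleton (LocCoh.H I d N) from this R
  intro N _ _ hfin
  induction hfin using IsNoetherianRing.induction_on_isQuotientEquivQuotientPrime R with
  | subsingleton N => exact LocCoh.subsingleton_H_of_isZero (M := ModuleCat.of R N) ‹_›
  | quotient N p e =>
    rw [(LocCoh.HLinearEquiv I d e).toEquiv.subsingleton_congr]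
    exact hprime p
  | exact N₁ N₂ N₃ f g hf hg hfg h₁ h₃ =>
    let S : ShortComplex (ModuleCat.{u} R) := ShortComplex.mk (ModuleCat.ofHom f) (ModuleCat.ofHom g)
      (ModuleCat.hom_ext hfg.linearMap_comp_eq_zero)
    have hS : S.ShortExact :=
      { exact := (ShortComplex.ShortExact.moduleCat_exact_iff_function_exact _).mpr hfg
        mono_f := (ModuleCat.mono_iff_injective _).mpr hf
        epi_g := (ModuleCat.epi_iff_surjective _).mpr hg }
    exact LocCoh.subsingleton_X₂ hS h₁ h₃

end Groth.Agent.LocCohSweep.HLVT
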