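import Groth.Prelude.Def_W4bk5brsh7111920
import Mathlib.Topology.NoetherianSpace
import Mathlib.RingTheory.Spectrum.Prime.Topology

/-!
# Connectedness dimension basics
-/

universe u

open TopologicalSpace

namespace Groth.Agent.LocCohSweep.ConnDim

variable {T : Type u} [TopologicalSpace T]

theorem dim_mono {s t : Set T} (h : s ⊆ t) :
    topologicalKrullDim ↥s ≤ topologicalKrullDim ↥t :=
  (Topology.IsEmbedding.inclusion h).isInducing.topologicalKrullDim_le

theorem dim_univ : topologicalKrullDim ↥(Set.univ : Set T) = topologicalKrullDim T :=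
  IsHomeomorph.topologicalKrullDim_eq _ (Homeomorph.Set.univ T).isHomeomorph

theorem dim_add_one_le {C F : Set T} (hC : IsIrreducible C) (hF : IsClosed F) (hFC : F ⊂ C) :
    topologicalKrullDim ↥F + 1 ≤ topologicalKrullDim ↥C := by
  have : IrreducibleSpace ↥C :=
    { toPreirreducibleSpace := Subtype.preirreducibleSpace hC.2
      toNonempty := hC.1.to_subtype }
  let top : IrreducibleCloseds ↥C := ⟨Set.univ, IrreducibleSpace.isIrreducible_univ _, isClosed_univ⟩
  let i : ↥F → ↥C := Set.inclusion hFC.subset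
  have hi := (Topology.IsEmbedding.inclusion hFC.subset).isInducing
  have hlt : ∀ c : IrreducibleCloseds ↥F, IrreducibleCloseds.map i hi.continuous c < top := by
    intro c
    refine lt_of_le_of_ne (fun x _ => trivial) fun e => ?_
    obtain ⟨x, hxC, hxF⟩ := Set.exists_of_ssubset hFC
    have hcl : IsClosed {y : ↥C | (y : T) ∈ F} := hF.preimage continuous_subtype_val
    have hsub : closure (i '' (c : Set ↥F)) ⊆ {y : ↥C | (y : T) ∈ F} :=
      closure_minimal (by rintro _ ⟨y, -, rfl⟩; exact y.2) hcl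
    have hmem : (⟨x, hxC⟩ : ↥C) ∈ closure (i '' (c : Set ↥F)) := by
      have h' : closure (i '' (c : Set ↥F)) = Set.univ :=
        congrArg (fun d : IrreducibleCloseds ↥C => (d : Set ↥C)) e
      rw [h']; trivial
    exact hxF (hsub hmem)
  have hd0 : (0 : WithBot ℕ∞) ≤ topologicalKrullDim ↥C :=
    Order.krullDim_nonneg_iff.mpr ⟨top⟩
  by_cases hne : Nonempty (IrreducibleCloseds ↥F)
  · haveI : Nonempty (IrreducibleCloseds ↥C) := ⟨top⟩
    rw [topologicalKrullDim, topologicalKrullDim, Order.krullDim_eq_iSup_length,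
      Order.krullDim_eq_iSup_length, ← WithBot.coe_one, ← WithBot.coe_add, WithBot.coe_le_coe,
      ENat.iSup_add]
    refine iSup_le fun l => ?_
    let l' := l.map (IrreducibleCloseds.map i hi.continuous)
      (IrreducibleCloseds.map_strictMono_of_isInducing hi)
    exact le_iSup_of_le (l'.snoc top (hlt _)) (le_of_eq (by simp [RelSeries.snoc, RelSeries.append, LTSeries.map, l']))
  · have := not_nonempty_iff.mp hne
    rw [topologicalKrullDim, Order.krullDim_eq_bot, WithBot.bot_add]
    exact bot_le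

theorem exists_component [Nonempty T] : ∃ C, C ∈ irreducibleComponents T :=
  ⟨irreducibleComponent (Classical.arbitrary T),
    irreducibleComponent_mem_irreducibleComponents _⟩

theorem eq_of_subset {C D : Set T} (hC : C ∈ irreducibleComponents T)
    (hD : D ∈ irreducibleComponents T) (h : C ⊆ D) : C = D :=
  h.antisymm (hC.2 hD.1 h)

variable [NoetherianSpace T]

theorem isClosed_sUnion {A : Set (Set T)} (hA : A ⊆ irreducibleComponents T) : IsClosed (⋃₀ A) := by
  rw [Set.sUnion_eq_biUnion]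
  exact (NoetherianSpace.finite_irreducibleComponents.subset hA).isClosed_biUnion
    fun C hC => isClosed_of_mem_irreducibleComponents C (hA hC)

theorem mem_of_subset_sUnion {C : Set T} (hC : C ∈ irreducibleComponents T) {A : Set (Set T)}
    (hA : A ⊆ irreducibleComponents T) (h : C ⊆ ⋃₀ A) : C ∈ A := by
  classical
  have hfin := NoetherianSpace.finite_irreducibleComponents.subset hA
  obtain ⟨D, hD, hCD⟩ := isIrreducible_iff_sUnion_isClosed.mp hC.1 hfin.toFinset
    (fun z hz => isClosed_of_mem_irreducibleComponents z (hA (hfin.mem_toFinset.mp hz)))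
    (by rwa [hfin.coe_toFinset])
  rw [eq_of_subset hC (hA (hfin.mem_toFinset.mp hD)) hCD]
  exact hfin.mem_toFinset.mp hD

omit [NoetherianSpace T] in
theorem sUnion_components : ⋃₀ irreducibleComponents T = Set.univ :=
  Set.eq_univ_of_forall fun x =>
    ⟨_, irreducibleComponent_mem_irreducibleComponents x, mem_irreducibleComponent⟩

/-- A proper two-part decomposition gives a candidate. -/
theorem connDim_le_of_split {A B : Set (Set T)} (hA : A ⊆ irreducibleComponents T)
    (hB : B ⊆ irreducibleComponents T) (hAB : A ∪ B = irreducibleComponents T)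
    (hnA : ¬ A ⊆ B) (hnB : ¬ B ⊆ A) :
    LocCoh.connDim T ≤ topologicalKrullDim ↥(⋃₀ A ∩ ⋃₀ B) := by
  refine iInf₂_le (f := fun (Z : Set T) (_ : IsClosed Z ∧ ¬ IsConnected Zᶜ) => topologicalKrullDim ↥Z)
    _ ⟨(isClosed_sUnion hA).inter (isClosed_sUnion hB), fun hconn => ?_⟩
  have hcover : (⋃₀ A ∩ ⋃₀ B)ᶜ ⊆ (⋃₀ A)ᶜ ∪ (⋃₀ B)ᶜ := (Set.compl_inter _ _).le
  obtain ⟨C, hCA, hCB⟩ := Set.not_subset.mp hnA
  obtain ⟨D, hDB, hDA⟩ := Set.not_subset.mp hnB
  obtain ⟨x, hx, hxB⟩ := Set.not_subset.mp fun h => hCB (mem_of_subset_sUnion (hA hCA) hB h)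
  obtain ⟨y, hy, hyA⟩ := Set.not_subset.mp fun h => hDA (mem_of_subset_sUnion (hB hDB) hA h)
  obtain ⟨z, -, hzA, hzB⟩ := hconn.isPreconnected _ _ (isClosed_sUnion hA).isOpen_compl
    (isClosed_sUnion hB).isOpen_compl hcover
    ⟨y, fun h => hyA h.1, hyA⟩ ⟨x, fun h => hxB h.2, hxB⟩
  have hz : z ∈ ⋃₀ (A ∪ B) := by rw [hAB, sUnion_components]; trivial
  rw [Set.sUnion_union] at hz
  exact hz.elim hzA hzB

variable [Nonempty T]

omit [NoetherianSpace T] [Nonempty T] in
theorem connDim_le_dim : LocCoh.connDim T ≤ topologicalKrullDim T := by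
  refine le_trans (iInf₂_le (f := fun (Z : Set T) (_ : IsClosed Z ∧ ¬ IsConnected Zᶜ) =>
    topologicalKrullDim ↥Z) Set.univ ⟨isClosed_univ, fun h => ?_⟩) dim_univ.le
  rw [Set.compl_univ] at h
  exact Set.not_nonempty_empty h.nonempty

theorem connDim_le_component {C : Set T} (hC : C ∈ irreducibleComponents T) :
    LocCoh.connDim T ≤ topologicalKrullDim ↥C := by
  by_cases h : irreducibleComponents T ⊆ {C}
  · have hCu : C = Set.univ := by
      rw [← sUnion_components (T := T), h.antisymm (Set.singleton_subset_iff.mpr hC), Set.sUnion_singleton]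
    rw [hCu, dim_univ]
    exact connDim_le_dim
  · obtain ⟨D, hD, hDC⟩ := Set.not_subset.mp h
    refine (connDim_le_of_split (A := {C}) (B := irreducibleComponents T \ {C})
      (Set.singleton_subset_iff.mpr hC) Set.sdiff_subset ?_ ?_ ?_).trans (dim_mono ?_)
    · rw [Set.union_sdiff_self, Set.union_eq_right]
      exact Set.singleton_subset_iff.mpr hC
    · simp
    · exact fun h' => hDC (h' ⟨hD, hDC⟩)
    · rw [Set.sUnion_singleton]
      exact Set.inter_subset_left

theorem connDim_eq : LocCoh.connDim T = ⨅ (A : Set (Set T)) (B : Set (Set T))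
    (_ : A ⊆ irreducibleComponents T ∧ B ⊆ irreducibleComponents T ∧ A.Nonempty ∧ B.Nonempty ∧
      A ∪ B = irreducibleComponents T), topologicalKrullDim ↥(⋃₀ A ∩ ⋃₀ B) := by
  apply le_antisymm
  · refine le_iInf fun A => le_iInf₂ fun B ⟨hA, hB, hAn, hBn, hAB⟩ => ?_
    by_cases h1 : A ⊆ B
    · obtain ⟨C, hC⟩ := hAn
      exact (connDim_le_component (hA hC)).trans
        (dim_mono (Set.subset_inter (Set.subset_sUnion_of_mem hC) (Set.subset_sUnion_of_mem (h1 hC))))
    · by_cases h2 : B ⊆ A
      · obtain ⟨C, hC⟩ := hBn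
        exact (connDim_le_component (hB hC)).trans
          (dim_mono (Set.subset_inter (Set.subset_sUnion_of_mem (h2 hC)) (Set.subset_sUnion_of_mem hC)))
      · exact connDim_le_of_split hA hB hAB h1 h2
  · refine le_iInf₂ fun Z ⟨hZ, hconn⟩ => ?_
    rcases Set.eq_empty_or_nonempty Zᶜ with he | hne
    · rw [Set.compl_empty_iff] at he
      refine iInf_le_of_le (irreducibleComponents T) (iInf₂_le_of_le (irreducibleComponents T)
        ⟨le_rfl, le_rfl, exists_component, exists_component, Set.union_self _⟩ ?_)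
      exact dim_mono (he ▸ Set.subset_univ _)
    · have hpre : ¬ IsPreconnected Zᶜ := fun h => hconn ⟨hne, h⟩
      simp only [IsPreconnected, not_forall] at hpre
      obtain ⟨U, V, hU, hV, hcov, hUn, hVn, hdisj⟩ := hpre
      rw [Set.not_nonempty_iff_eq_empty] at hdisj
      have key : ∀ C ∈ irreducibleComponents T, (Zᶜ ∩ (C ∩ U)).Nonempty →
          (Zᶜ ∩ (C ∩ V)).Nonempty → False := by
        intro C hC ⟨x, hx, hxC, hxU⟩ ⟨y, hy, hyC, hyV⟩
        obtain ⟨z, -, ⟨hzU, hzZ⟩, hzV, -⟩ := hC.1.isPreirreducible _ _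
          (hU.inter hZ.isOpen_compl) (hV.inter hZ.isOpen_compl)
          ⟨x, hxC, hxU, hx⟩ ⟨y, hyC, hyV, hy⟩
        exact Set.notMem_empty z (hdisj ▸ ⟨hzZ, hzU, hzV⟩)
      let A := {C | C ∈ irreducibleComponents T ∧ ((Zᶜ ∩ (C ∩ U)).Nonempty ∨ C ⊆ Z)}
      let B := {C | C ∈ irreducibleComponents T ∧ ((Zᶜ ∩ (C ∩ V)).Nonempty ∨ C ⊆ Z)}
      have mem : ∀ x, ∃ C, C ∈ irreducibleComponents T ∧ x ∈ C := fun x =>
        ⟨_, irreducibleComponent_mem_irreducibleComponents x, mem_irreducibleComponent⟩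
      refine iInf_le_of_le A (iInf₂_le_of_le B ⟨fun C h => h.1, fun C h => h.1, ?_, ?_, ?_⟩
        (dim_mono ?_))
      · obtain ⟨x, hx, hxU⟩ := hUn
        obtain ⟨C, hC, hxC⟩ := mem x
        exact ⟨C, hC, Or.inl ⟨x, hx, hxC, hxU⟩⟩
      · obtain ⟨x, hx, hxV⟩ := hVn
        obtain ⟨C, hC, hxC⟩ := mem x
        exact ⟨C, hC, Or.inl ⟨x, hx, hxC, hxV⟩⟩
      · refine Set.Subset.antisymm (Set.union_subset (fun C h => h.1) fun C h => h.1) fun C hC => ?_
        by_cases hCZ : C ⊆ Z
        · exact Or.inl ⟨hC, Or.inr hCZ⟩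
        · obtain ⟨x, hxC, hxZ⟩ := Set.not_subset.mp hCZ
          exact (hcov hxZ).elim (fun h => Or.inl ⟨hC, Or.inl ⟨x, hxZ, hxC, h⟩⟩)
            fun h => Or.inr ⟨hC, Or.inl ⟨x, hxZ, hxC, h⟩⟩
      · rintro x ⟨⟨C, ⟨hC, hCU⟩, hxC⟩, D, ⟨hD, hDV⟩, hxD⟩
        by_contra hxZ
        have hCU' := hCU.resolve_right fun h => hxZ (h hxC)
        have hDV' := hDV.resolve_right fun h => hxZ (h hxD)
        exact (hcov hxZ).elim (fun h => key D hD ⟨x, hxZ, hxD, h⟩ hDV')
          fun h => key C hC hCU' ⟨x, hxZ, hxC, h⟩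

theorem subdim_facts (hfin : topologicalKrullDim T < ⊤) :
    LocCoh.connDim T ≤ LocCoh.subdim T ∧
      (LocCoh.connDim T = LocCoh.subdim T ↔ IrreducibleSpace T) := by
  refine ⟨le_iInf₂ fun C hC => connDim_le_component hC, ⟨fun heq => ?_, fun hirr => ?_⟩⟩
  · obtain ⟨C, hC, hmin⟩ := (irreducibleComponents T).exists_min_image
      (fun C => topologicalKrullDim ↥C) NoetherianSpace.finite_irreducibleComponents exists_component
    have hsub : LocCoh.subdim T = topologicalKrullDim ↥C :=
      le_antisymm (iInf₂_le (f := fun (Z : Set T) (_ : Z ∈ irreducibleComponents T) =>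
        topologicalKrullDim ↥Z) C hC) (le_iInf₂ hmin)
    by_cases h : irreducibleComponents T ⊆ {C}
    · have hCu : C = Set.univ := by
        rw [← sUnion_components (T := T), h.antisymm (Set.singleton_subset_iff.mpr hC),
          Set.sUnion_singleton]
      exact { toPreirreducibleSpace := ⟨hCu ▸ hC.1.2⟩, toNonempty := ‹_› }
    · exfalso
      obtain ⟨D, hD, hDC⟩ := Set.not_subset.mp h
      have hB : irreducibleComponents T \ {C} ⊆ irreducibleComponents T := Set.sdiff_subset
      have hle := connDim_le_of_split (A := {C}) (B := irreducibleComponents T \ {C})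
        (Set.singleton_subset_iff.mpr hC) hB
        (by rw [Set.union_sdiff_self, Set.union_eq_right]; exact Set.singleton_subset_iff.mpr hC)
        (by simp) fun h' => hDC (h' ⟨hD, hDC⟩)
      rw [Set.sUnion_singleton, heq, hsub] at hle
      have hlt : C ∩ ⋃₀ (irreducibleComponents T \ {C}) ⊂ C :=
        ⟨Set.inter_subset_left, fun hs => (mem_of_subset_sUnion hC hB
          (hs.trans Set.inter_subset_right)).2 rfl⟩
      have h1 := dim_add_one_le hC.1 ((isClosed_of_mem_irreducibleComponents C hC).inter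
        (isClosed_sUnion hB)) hlt
      have h2 := (add_le_add_left hle 1).trans h1
      have hd : topologicalKrullDim ↥C < ⊤ := (topologicalKrullDim_subspace_le T C).trans_lt hfin
      have h0 : (0 : WithBot ℕ∞) ≤ topologicalKrullDim ↥C :=
        Order.krullDim_nonneg_iff.mpr ⟨⟨closure {(⟨hC.1.1.some, hC.1.1.some_mem⟩ : ↥C)},
          isIrreducible_singleton.closure, isClosed_closure⟩⟩
      cases hd' : topologicalKrullDim ↥C with
      | bot => rw [hd'] at h0; exact absurd h0 (by simp)
      | coe v =>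
        rw [hd'] at h2 hd
        cases v with
        | top => exact absurd hd (lt_irrefl _)
        | coe n =>
          have h3 : ((n + 1 : ℕ) : WithBot ℕ∞) ≤ ((n : ℕ) : WithBot ℕ∞) := by exact_mod_cast h2
          have : n + 1 ≤ n := by exact_mod_cast h3
          omega
  · refine le_antisymm (le_iInf₂ fun C hC => connDim_le_component hC) (le_iInf₂ fun Z ⟨hZ, hconn⟩ => ?_)
    have huniv : (Set.univ : Set T) ∈ irreducibleComponents T :=
      ⟨IrreducibleSpace.isIrreducible_univ T, fun s _ _ => Set.subset_univ s⟩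
    rcases Set.eq_empty_or_nonempty Zᶜ with he | hne
    · rw [Set.compl_empty_iff] at he
      subst he
      exact iInf₂_le (f := fun (Z : Set T) (_ : Z ∈ irreducibleComponents T) =>
        topologicalKrullDim ↥Z) _ huniv
    · exact absurd ⟨hne, ((IrreducibleSpace.isIrreducible_univ T).2.open_subset hZ.isOpen_compl
        (Set.subset_univ _)).isPreconnected⟩ hconn

end Groth.Agent.LocCohSweep.ConnDim
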