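import Groth.Agent.LocCohSweep.ThreeFunctor
import Groth.Agent.LocCoh.Support
import Groth.Prelude.Def_DerCA

/-!
# Mayer–Vietoris, and the sequence of `a + (b)`
-/

universe u

open CategoryTheory Limits

namespace Groth.Agent.LocCohSweep.ThreeFunctor

open Groth.Agent.LocCoh (hm hm_hm hm_δH δH)

variable {R : Type u} [CommRing R]

theorem δH_naturality (I : Ideal R) (i : ℕ) {S T : ShortComplex (ModuleCat.{u} R)}
    (hS : S.ShortExact) (hT : T.ShortExact) (φ : S ⟶ T) (x : (localCohomology I i).obj S.X₃) :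
    ((localCohomology I (i + 1)).map φ.τ₁).hom (δH i hS x) =
      δH i hT (((localCohomology I i).map φ.τ₃).hom x) := by
  obtain ⟨n, e, rfl⟩ := LocCoh.exists_ιH x
  rw [LocCoh.ιH_naturality, LocCoh.δH_ι, LocCoh.δH_ι, LocCoh.ιH_naturality,
    Abelian.Ext.comp_assoc_of_second_deg_zero, Abelian.Ext.comp_assoc_of_third_deg_zero,
    ← ShortComplex.ShortExact.extClass_naturality hS hT φ]

/-- Local cohomology as a δ-functor. -/
noncomputable def lc (I : Ideal R) : Coh R where
  F := localCohomology I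
  δ i _ hS := δH i hS
  exact₁ _ _ hS := LocCoh.exact₁ hS
  exact₂ _ _ hS := LocCoh.exact₂ hS
  exact₃ _ _ hS := LocCoh.exact₃ hS
  injective₀ hS := LocCoh.injective_map_zero hS

/-- The product of two functors. -/
def prodF (F G : ModuleCat.{u} R ⥤ ModuleCat.{u} R) : ModuleCat.{u} R ⥤ ModuleCat.{u} R where
  obj M := ModuleCat.of R (F.obj M × G.obj M)
  map f := ModuleCat.ofHom ((F.map f).hom.prodMap (G.map f).hom)
  map_id M := by
    ext x
    all_goals simp
  map_comp f g := by
    ext x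
    all_goals simp

theorem exact_prodMap {A₁ A₂ A₃ B₁ B₂ B₃ : Type u} [AddCommGroup A₁] [Module R A₁] [AddCommGroup A₂]
    [Module R A₂] [AddCommGroup A₃] [Module R A₃] [AddCommGroup B₁] [Module R B₁] [AddCommGroup B₂]
    [Module R B₂] [AddCommGroup B₃] [Module R B₃] {f : A₁ →ₗ[R] A₂} {g : A₂ →ₗ[R] A₃}
    {f' : B₁ →ₗ[R] B₂} {g' : B₂ →ₗ[R] B₃} (h : Function.Exact f g) (h' : Function.Exact f' g') :
    Function.Exact (f.prodMap f') (g.prodMap g') := fun x =>
  ⟨fun hx => by
    obtain ⟨u, hu⟩ := (h x.1).mp (congrArg Prod.fst hx)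
    obtain ⟨v, hv⟩ := (h' x.2).mp (congrArg Prod.snd hx)
    exact ⟨(u, v), Prod.ext hu hv⟩,
  by
    rintro ⟨⟨u, v⟩, rfl⟩
    exact Prod.ext (h.apply_apply_eq_zero u) (h'.apply_apply_eq_zero v)⟩

/-- The product of two δ-functors. -/
noncomputable def Coh.prod (A B : Coh R) : Coh R where
  F i := prodF (A.F i) (B.F i)
  δ i _ hS := (A.δ i hS).prodMap (B.δ i hS)
  exact₁ i _ hS := exact_prodMap (A.exact₁ i hS) (B.exact₁ i hS)
  exact₂ i _ hS := exact_prodMap (A.exact₂ i hS) (B.exact₂ i hS)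
  exact₃ i _ hS := exact_prodMap (A.exact₃ i hS) (B.exact₃ i hS)
  injective₀ hS := (A.injective₀ hS).prodMap (B.injective₀ hS)

section MV

variable [IsNoetherianRing R] (I J : Ideal R)

theorem exists_pow_inf_pow_le (n : ℕ) : ∃ k, I ^ k ⊓ J ^ k ≤ (I ⊓ J) ^ n := by
  obtain ⟨c, hc⟩ := Ideal.exists_pow_inf_eq_pow_smul I (J ^ n : Ideal R)
  refine ⟨n + c, ?_⟩
  have h2 : J ^ (n + c) ≤ J ^ n := Ideal.pow_le_pow_right (Nat.le_add_right n c)
  refine (inf_le_inf_left _ h2).trans ?_
  have h := hc (n + c) (Nat.le_add_left c n)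
  simp only [smul_eq_mul, Ideal.mul_top, Nat.add_sub_cancel] at h
  rw [h]
  refine (Ideal.mul_mono_right inf_le_right).trans ?_
  rw [← mul_pow]
  exact Ideal.pow_right_mono Ideal.mul_le_inf n

theorem exists_split_of_injective (E : Type u) [AddCommGroup E] [Module R E] [hE : Module.Injective R E]
    (z : E) (hz : z ∈ DRing.torsionSub (I ⊓ J) E) :
    ∃ e₁ ∈ DRing.torsionSub I E, ∃ e₂ ∈ DRing.torsionSub J E, e₁ - e₂ = z := by
  obtain ⟨n, hn⟩ := hz
  obtain ⟨k, hk⟩ := exists_pow_inf_pow_le I J n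
  let j : R ⧸ (I ^ k ⊓ J ^ k) →ₗ[R] (R ⧸ I ^ k) × (R ⧸ J ^ k) :=
    Submodule.liftQ _ ((Submodule.mkQ (I ^ k)).prod (Submodule.mkQ (J ^ k))) (by
      rw [LinearMap.ker_prod, Submodule.ker_mkQ, Submodule.ker_mkQ])
  have hj : Function.Injective j := by
    rw [← LinearMap.ker_eq_bot, Submodule.ker_liftQ_eq_bot']
    rw [LinearMap.ker_prod, Submodule.ker_mkQ, Submodule.ker_mkQ]
  let g : R ⧸ (I ^ k ⊓ J ^ k) →ₗ[R] E :=
    Submodule.liftQ _ (LinearMap.toSpanSingleton R E z) fun a ha => by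
      simpa using hn a (hk ha)
  obtain ⟨h, hh⟩ := hE.out j hj g
  refine ⟨h (Submodule.Quotient.mk 1, 0), ⟨k, fun a ha => ?_⟩,
    -h (0, Submodule.Quotient.mk 1), ⟨k, fun a ha => ?_⟩, ?_⟩
  · rw [← map_smul, Prod.smul_mk, smul_zero, ← Submodule.Quotient.mk_smul, smul_eq_mul, mul_one,
      (Submodule.Quotient.mk_eq_zero _).mpr ha, Prod.mk_zero_zero, map_zero]
  · rw [smul_neg, ← map_smul, Prod.smul_mk, smul_zero, ← Submodule.Quotient.mk_smul, smul_eq_mul,
      mul_one, (Submodule.Quotient.mk_eq_zero _).mpr ha, Prod.mk_zero_zero, map_zero, neg_zero]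
  · rw [sub_neg_eq_add, ← map_add, Prod.mk_add_mk, add_zero, zero_add]
    have := hh (Submodule.Quotient.mk 1)
    simp only [j, g, Submodule.liftQ_apply, LinearMap.prod_apply, LinearMap.toSpanSingleton_apply,
      one_smul] at this
    exact this

/-- The comparison `H_{I+J} → H_I × H_J`. -/
noncomputable def mvP (i : ℕ) :
    localCohomology (I ⊔ J) i ⟶ prodF (localCohomology I i) (localCohomology J i) where
  app M := ModuleCat.ofHom ((hm (le_sup_left : I ≤ I ⊔ J) i M).prod (hm (le_sup_right : J ≤ I ⊔ J) i M))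
  naturality M N f := by
    ext x
    exact Prod.ext (nat_apply (Dual2.HmapOfLE le_sup_left i) f x)
      (nat_apply (Dual2.HmapOfLE le_sup_right i) f x)

/-- The difference `H_I × H_J → H_{I∩J}`. -/
noncomputable def mvD (i : ℕ) :
    prodF (localCohomology I i) (localCohomology J i) ⟶ localCohomology (I ⊓ J) i where
  app M := ModuleCat.ofHom (hm (inf_le_left : I ⊓ J ≤ I) i M ∘ₗ LinearMap.fst R _ _ -
    hm (inf_le_right : I ⊓ J ≤ J) i M ∘ₗ LinearMap.snd R _ _)
  naturality M N f := by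
    refine ModuleCat.hom_ext (LinearMap.ext fun x => ?_)
    show hm _ i N (((localCohomology I i).map f).hom x.1) -
        hm _ i N (((localCohomology J i).map f).hom x.2) =
      ((localCohomology (I ⊓ J) i).map f).hom (hm _ i M x.1 - hm _ i M x.2)
    rw [map_sub]
    exact congrArg₂ (· - ·) (nat_apply _ f x.1) (nat_apply _ f x.2)

omit [IsNoetherianRing R] in
theorem mvD_apply (i : ℕ) (M : ModuleCat.{u} R)
    (x : (localCohomology I i).obj M × (localCohomology J i).obj M) :
    ((mvD I J i).app M).hom x =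
      hm (inf_le_left : I ⊓ J ≤ I) i M x.1 - hm (inf_le_right : I ⊓ J ≤ J) i M x.2 :=
  rfl

omit [IsNoetherianRing R] in
theorem mvD_δH (i : ℕ) {S : ShortComplex (ModuleCat.{u} R)} (hS : S.ShortExact)
    (b₁ : (localCohomology I i).obj S.X₃) (b₂ : (localCohomology J i).obj S.X₃) :
    ((mvD I J (i + 1)).app S.X₁).hom (δH i hS b₁, δH i hS b₂) =
      δH i hS (((mvD I J i).app S.X₃).hom (b₁, b₂)) := by
  rw [mvD_apply, mvD_apply, hm_δH, hm_δH, map_sub]

omit [IsNoetherianRing R] in
theorem mvD_mvP (i : ℕ) (M : ModuleCat.{u} R) (a : (localCohomology (I ⊔ J) i).obj M) :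
    ((mvD I J i).app M).hom (hm (le_sup_left : I ≤ I ⊔ J) i M a, hm (le_sup_right : J ≤ I ⊔ J) i M a)
      = 0 := by
  rw [mvD_apply, hm_hm, hm_hm, sub_self]

theorem mv_exact_zero (M : ModuleCat.{u} R) :
    Function.Exact ((mvP I J 0).app M).hom ((mvD I J 0).app M).hom := fun x => by
  constructor
  · intro hx
    obtain ⟨x₁, x₂⟩ := x
    rw [mvD_apply, sub_eq_zero] at hx
    have he : (LocCoh.H0Equiv I M x₁ : M) = (LocCoh.H0Equiv J M x₂ : M) := by
      rw [← LocCoh.hm_H0Equiv (inf_le_left : I ⊓ J ≤ I) x₁, hx, LocCoh.hm_H0Equiv]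
    have hmem : (LocCoh.H0Equiv I M x₁ : M) ∈ DRing.torsionSub (I ⊔ J) M := by
      rw [LocCoh.torsionSub_sup]
      exact ⟨(LocCoh.H0Equiv I M x₁).2, he ▸ (LocCoh.H0Equiv J M x₂).2⟩
    refine ⟨(LocCoh.H0Equiv (I ⊔ J) M).symm ⟨_, hmem⟩, Prod.ext ?_ ?_⟩
    · refine (LocCoh.H0Equiv I M).injective (Subtype.ext ?_)
      exact (LocCoh.hm_H0Equiv _ _).trans (by rw [LinearEquiv.apply_symm_apply])
    · refine (LocCoh.H0Equiv J M).injective (Subtype.ext ?_)
      exact (LocCoh.hm_H0Equiv _ _).trans (by rw [LinearEquiv.apply_symm_apply, he])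
  · rintro ⟨a, rfl⟩
    exact mvD_mvP I J 0 M a

theorem surjective_mvD (i : ℕ) (E : ModuleCat.{u} R) [Injective E] :
    Function.Surjective ((mvD I J i).app E).hom := by
  rcases i with - | i
  · intro z
    have : Module.Injective R E := (Module.injective_iff_injective_object R E).mpr
      (inferInstanceAs (Injective E))
    obtain ⟨e₁, h₁, e₂, h₂, he⟩ :=
      exists_split_of_injective I J E _ (LocCoh.H0Equiv (I ⊓ J) E z).2
    refine ⟨((LocCoh.H0Equiv I E).symm ⟨e₁, h₁⟩, (LocCoh.H0Equiv J E).symm ⟨e₂, h₂⟩),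
      (LocCoh.H0Equiv (I ⊓ J) E).injective (Subtype.ext ?_)⟩
    rw [mvD_apply, map_sub, Submodule.coe_sub, LocCoh.hm_H0Equiv, LocCoh.hm_H0Equiv,
      LinearEquiv.apply_symm_apply, LinearEquiv.apply_symm_apply, he]
  · intro z
    exact ⟨0, (LocCoh.subsingleton_H_succ_of_injective (I := I ⊓ J) (i := i) E).elim _ _⟩

/-- The Mayer–Vietoris data. -/
noncomputable def mvTri : Tri R where
  A := lc (I ⊔ J)
  B := (lc I).prod (lc J)
  C := lc (I ⊓ J)
  p := mvP I J
  d := mvD I J
  p_δ i _ hS a := Prod.ext (hm_δH _ i hS a) (hm_δH _ i hS a)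
  d_δ i _ hS b := mvD_δH I J i hS b.1 b.2
  injective_p M := fun a b hab => LocCoh.hm_zero_injective _ M (congrArg Prod.fst hab)
  exact_zero M := mv_exact_zero I J M
  d_p i M a := mvD_mvP I J i M a
  subsingleton_A i E _ := LocCoh.subsingleton_H_succ_of_injective E
  subsingleton_B i E _ := @instSubsingletonProd _ _
    (LocCoh.subsingleton_H_succ_of_injective (I := I) (i := i) E)
    (LocCoh.subsingleton_H_succ_of_injective (I := J) (i := i) E)
  surjective_d i E _ := surjective_mvD I J i E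

theorem mayerVietoris (M : ModuleCat.{u} R) (i : ℕ) :
    Function.Exact ((hm (le_sup_left : I ≤ I ⊔ J) i M).prod (hm (le_sup_right : J ≤ I ⊔ J) i M))
      (hm (inf_le_left : I ⊓ J ≤ I) i M ∘ₗ
          LinearMap.fst R ((localCohomology I i).obj M) ((localCohomology J i).obj M) -
        hm (inf_le_right : I ⊓ J ≤ J) i M ∘ₗ
          LinearMap.snd R ((localCohomology I i).obj M) ((localCohomology J i).obj M)) ∧
    ∃ δ : (localCohomology (I ⊓ J) i).obj M →ₗ[R] (localCohomology (I ⊔ J) (i + 1)).obj M,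
      Function.Exact δ ((hm (le_sup_left : I ≤ I ⊔ J) (i + 1) M).prod
        (hm (le_sup_right : J ≤ I ⊔ J) (i + 1) M)) ∧
      Function.Exact (hm (inf_le_left : I ⊓ J ≤ I) i M ∘ₗ
          LinearMap.fst R ((localCohomology I i).obj M) ((localCohomology J i).obj M) -
        hm (inf_le_right : I ⊓ J ≤ J) i M ∘ₗ
          LinearMap.snd R ((localCohomology I i).obj M) ((localCohomology J i).obj M)) δ :=
  ⟨(mvTri I J).exact_middle i M, (mvTri I J).exists_δ i M⟩

end MV

section Away

/-- A δ-functor precomposed with localisation at the powers of `b`. -/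
noncomputable def Coh.precompLoc (A : Coh R) (b : R) : Coh R where
  F i := DerCA.locFunctor (Submonoid.powers b) ⋙ A.F i
  δ i _ hS := A.δ i (shortExact_loc b hS)
  exact₁ i _ hS := A.exact₁ i (shortExact_loc b hS)
  exact₂ i _ hS := A.exact₂ i (shortExact_loc b hS)
  exact₃ i _ hS := A.exact₃ i (shortExact_loc b hS)
  injective₀ hS := A.injective₀ (shortExact_loc b hS)
where
  shortExact_loc (b : R) {S : ShortComplex (ModuleCat.{u} R)} (hS : S.ShortExact) :
      (S.map (DerCA.locFunctor (Submonoid.powers b))).ShortExact :=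
    { exact := (ShortComplex.ShortExact.moduleCat_exact_iff_function_exact _).mpr
        (IsLocalizedModule.map_exact (Submonoid.powers b) (LocalizedModule.mkLinearMap _ S.X₁)
          (LocalizedModule.mkLinearMap _ S.X₂) (LocalizedModule.mkLinearMap _ S.X₃) S.f.hom S.g.hom
          ((ShortComplex.ShortExact.moduleCat_exact_iff_function_exact _).mp hS.exact))
      mono_f := (ModuleCat.mono_iff_injective _).mpr
        (IsLocalizedModule.map_injective (Submonoid.powers b) (LocalizedModule.mkLinearMap _ S.X₁)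
          (LocalizedModule.mkLinearMap _ S.X₂) _ ((ModuleCat.mono_iff_injective _).mp hS.mono_f))
      epi_g := (ModuleCat.epi_iff_surjective _).mpr
        (IsLocalizedModule.map_surjective (Submonoid.powers b) (LocalizedModule.mkLinearMap _ S.X₂)
          (LocalizedModule.mkLinearMap _ S.X₃) _ ((ModuleCat.epi_iff_surjective _).mp hS.epi_g)) }

/-- The natural transformation of short exact sequences `S → S_b`. -/
noncomputable def locHom (b : R) (S : ShortComplex (ModuleCat.{u} R)) :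
    S ⟶ S.map (DerCA.locFunctor (Submonoid.powers b)) where
  τ₁ := (DerCA.locUnit (Submonoid.powers b)).app S.X₁
  τ₂ := (DerCA.locUnit (Submonoid.powers b)).app S.X₂
  τ₃ := (DerCA.locUnit (Submonoid.powers b)).app S.X₃
  comm₁₂ := ((DerCA.locUnit (Submonoid.powers b)).naturality S.f).symm
  comm₂₃ := ((DerCA.locUnit (Submonoid.powers b)).naturality S.g).symm

variable (a : Ideal R) (b : R)

/-- `H_a(M) → H_a(M_b)`, naturally in `M`. -/
noncomputable def awayD (i : ℕ) :
    localCohomology a i ⟶ DerCA.locFunctor (Submonoid.powers b) ⋙ localCohomology a i where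
  app M := (localCohomology a i).map ((DerCA.locUnit (Submonoid.powers b)).app M)
  naturality M N f := by
    rw [Functor.comp_map, ← Functor.map_comp, ← Functor.map_comp]
    exact congrArg _ ((DerCA.locUnit (Submonoid.powers b)).naturality f)

theorem mem_torsionSub_sup_span_iff (N : Type u) [AddCommGroup N] [Module R N] (x : N) :
    x ∈ DRing.torsionSub (a ⊔ Ideal.span {b}) N ↔
      x ∈ DRing.torsionSub a N ∧ ∃ k : ℕ, b ^ k • x = 0 :=
  ⟨fun h => ⟨LocCoh.torsionSub_le_of_le le_sup_left N h, LocCoh.exists_pow_smul_of_mem_sup_span h⟩,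
    fun ⟨h, _, hk⟩ => LocCoh.mem_torsionSub_sup_span h hk⟩

theorem mkLinearMap_eq_zero_iff {N : Type u} [AddCommGroup N] [Module R N] (x : N) :
    LocalizedModule.mkLinearMap (Submonoid.powers b) N x = 0 ↔ ∃ k : ℕ, b ^ k • x = 0 := by
  rw [IsLocalizedModule.eq_zero_iff (Submonoid.powers b)]
  exact ⟨fun ⟨⟨_, k, rfl⟩, hs⟩ => ⟨k, hs⟩, fun ⟨k, hk⟩ => ⟨⟨b ^ k, k, rfl⟩, hk⟩⟩

theorem exact_zero_away (M : ModuleCat.{u} R) :
    Function.Exact (hm (le_sup_left : a ≤ a ⊔ Ideal.span {b}) 0 M) ((awayD a b 0).app M).hom := by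
  intro x
  have h1 : (LocCoh.H0Equiv a _ (((awayD a b 0).app M).hom x)).1
      = LocalizedModule.mkLinearMap (Submonoid.powers b) M (LocCoh.H0Equiv a M x : M) :=
    LocCoh.H0Equiv_naturality _ x
  constructor
  · intro hx
    rw [hx, map_zero] at h1
    obtain ⟨k, hk⟩ := (mkLinearMap_eq_zero_iff b _).mp h1.symm
    refine ⟨(LocCoh.H0Equiv _ M).symm ⟨_, LocCoh.mem_torsionSub_sup_span (LocCoh.H0Equiv a M x).2 hk⟩,
      (LocCoh.H0Equiv a M).injective (Subtype.ext ?_)⟩
    rw [LocCoh.hm_H0Equiv, LinearEquiv.apply_symm_apply]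
  · rintro ⟨y, rfl⟩
    refine (LocCoh.H0Equiv a _).injective (Subtype.ext ?_)
    rw [map_zero]
    refine h1.trans ((mkLinearMap_eq_zero_iff b _).mpr ?_)
    rw [LocCoh.hm_H0Equiv]
    exact LocCoh.exists_pow_smul_of_mem_sup_span (LocCoh.H0Equiv _ M y).2

theorem d_p_away : ∀ (i : ℕ) (M : ModuleCat.{u} R) (x : (localCohomology (a ⊔ Ideal.span {b}) i).obj M),
    ((awayD a b i).app M).hom (hm le_sup_left i M x) = 0 := by
  intro i
  induction i with
  | zero => exact fun M x => (exact_zero_away a b M).apply_apply_eq_zero x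
  | succ i ih =>
    intro M x
    obtain ⟨S, hS, rfl, hE⟩ := LocCoh.exists_injective_shortExact M
    obtain ⟨y, rfl⟩ := (LocCoh.exact₁ (i := i) hS x).mp
      ((LocCoh.subsingleton_H_succ_of_injective S.X₂).elim _ _)
    rw [hm_δH]
    refine (δH_naturality a i hS (Coh.precompLoc.shortExact_loc b hS) (locHom b S) _).trans ?_
    exact (congrArg _ (ih S.X₃ y)).trans (map_zero _)

variable [IsNoetherianRing R]

theorem surjective_mkLinearMap_of_injective (E : Type u) [AddCommGroup E] [Module R E]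
    [Module.Injective R E] : Function.Surjective (LocalizedModule.mkLinearMap (Submonoid.powers b) E) := by
  intro y
  induction y using LocalizedModule.induction_on with
  | h m s =>
    obtain ⟨_, k, rfl⟩ := s
    obtain ⟨e, n, hn⟩ := LocCoh.isDivModTorsion_of_injective (b ^ k) E m
    refine ⟨e, (LocalizedModule.mk_eq.mpr ⟨⟨b ^ (k * n), k * n, rfl⟩, ?_⟩)⟩
    rw [← pow_mul, smul_sub, sub_eq_zero] at hn
    show b ^ (k * n) • b ^ k • e = b ^ (k * n) • (1 : R) • m
    rw [one_smul, hn]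

theorem surjective_awayD (i : ℕ) (E : ModuleCat.{u} R) [Injective E] :
    Function.Surjective ((awayD a b i).app E).hom := by
  have hE : Module.Injective R E := (Module.injective_iff_injective_object R E).mpr
    (inferInstanceAs (Injective E))
  let ℓ := LocalizedModule.mkLinearMap (Submonoid.powers b) E
  have hS := LinearMap.shortExact_shortComplexKer (surjective_mkLinearMap_of_injective b E)
  have hker : LinearMap.ker ℓ = DRing.torsionSub (Ideal.span {b}) E := SetLike.ext fun e =>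
    (mkLinearMap_eq_zero_iff b e).trans LocCoh.mem_torsionSub_span_singleton.symm
  have : Injective (ModuleCat.of R (LinearMap.ker ℓ)) := by
    have := LocCoh.injective_torsionSub (Ideal.span {b}) E
    exact Injective.of_iso (LinearEquiv.ofEq _ _ hker.symm).toModuleIso this
  have h := LocCoh.subsingleton_H_succ_of_injective (I := a) (i := i)
    (ModuleCat.of R (LinearMap.ker ℓ))
  exact fun y => (LocCoh.exact₃ (i := i) hS y).mp (h.elim _ _)

/-- The data of the sequence of `a + (b)`. -/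
noncomputable def awayTri : Tri R where
  A := lc (a ⊔ Ideal.span {b})
  B := lc a
  C := (lc a).precompLoc b
  p i := Dual2.HmapOfLE le_sup_left i
  d i := awayD a b i
  p_δ i S hS x := hm_δH _ i hS x
  d_δ i S hS x := δH_naturality a i hS _ (locHom b S) x
  injective_p M := LocCoh.hm_zero_injective _ M
  exact_zero M := exact_zero_away a b M
  d_p i M x := d_p_away a b i M x
  subsingleton_A i E _ := LocCoh.subsingleton_H_succ_of_injective E
  subsingleton_B i E _ := LocCoh.subsingleton_H_succ_of_injective E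
  surjective_d i E _ := surjective_awayD a b i E

/-- `H^i_a(M) → H^i_a(M_b)`. -/
noncomputable abbrev awayMap (i : ℕ) (M : Type u) [AddCommGroup M] [Module R M] :
    _root_.LocCoh.H a i M →ₗ[R] _root_.LocCoh.H a i (LocalizedModule (Submonoid.powers b) M) :=
  ((localCohomology a i).map (ModuleCat.ofHom (LocalizedModule.mkLinearMap (Submonoid.powers b) M))).hom

theorem away_exact (M : Type u) [AddCommGroup M] [Module R M] (i : ℕ) :
    Function.Exact (hm (le_sup_left : a ≤ a ⊔ Ideal.span {b}) i (ModuleCat.of R M)) (awayMap a b i M) :=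
  (awayTri a b).exact_middle i (ModuleCat.of R M)

theorem exists_awayδ (M : Type u) [AddCommGroup M] [Module R M] (i : ℕ) :
    ∃ δ : _root_.LocCoh.H a i (LocalizedModule (Submonoid.powers b) M) →ₗ[R]
        _root_.LocCoh.H (a ⊔ Ideal.span {b}) (i + 1) M,
      Function.Exact δ (hm (le_sup_left : a ≤ a ⊔ Ideal.span {b}) (i + 1) (ModuleCat.of R M)) ∧
      Function.Exact (awayMap a b i M) δ :=
  (awayTri a b).exists_δ i (ModuleCat.of R M)

theorem nonempty_coker_awayMap_equiv (M : Type u) [AddCommGroup M] [Module R M] (i : ℕ) :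
    Nonempty ((_root_.LocCoh.H a i (LocalizedModule (Submonoid.powers b) M) ⧸
      LinearMap.range (awayMap a b i M)) ≃ₗ[R]
        LinearMap.ker (hm (le_sup_left : a ≤ a ⊔ Ideal.span {b}) (i + 1) (ModuleCat.of R M))) := by
  obtain ⟨δ, h1, h2⟩ := exists_awayδ a b M i
  exact ⟨(Submodule.quotEquivOfEq _ _ h2.linearMap_ker_eq.symm) ≪≫ₗ δ.quotKerEquivRange ≪≫ₗ
    LinearEquiv.ofEq _ _ h1.linearMap_ker_eq.symm⟩

end Away

end Groth.Agent.LocCohSweep.ThreeFunctor
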