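import Groth.Agent.LocCohSweep.HLVT
import Groth.Agent.LocCohSweep.MayerVietoris
import Groth.Agent.LocCohSweep.ConnDim
import Groth.Agent.EGA41Lib.Params
import Groth.Agent.LocCoh.Acyclic
import Mathlib

/-!
# Connectedness bounds from the Hartshorne-Lichtenbaum vanishing theorem
-/

set_option autoImplicit false

universe u

open IsLocalRing PrimeSpectrum

namespace Groth.Agent.LocCohSweep.HLVTConn

section Dim

variable {R : Type u} [CommRing R]

theorem dim_zeroLocus (I : Ideal R) :
    topologicalKrullDim ↥(zeroLocus (I : Set R)) = ringKrullDim (R ⧸ I) := by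
  rw [← PrimeSpectrum.topologicalKrullDim_eq_ringKrullDim]
  refine (IsHomeomorph.topologicalKrullDim_eq
    (Homeomorph.trans (PrimeSpectrum.isClosedEmbedding_comap_of_surjective _ (Ideal.Quotient.mk I)
      Ideal.Quotient.mk_surjective).toHomeomorph (Homeomorph.setCongr ?_))
    (Homeomorph.isHomeomorph _)).symm
  rw [range_comap_of_surjective _ (Ideal.Quotient.mk I) Ideal.Quotient.mk_surjective, Ideal.mk_ker]

theorem dim_antitone {I J : Ideal R} (h : I ≤ J) : ringKrullDim (R ⧸ J) ≤ ringKrullDim (R ⧸ I) :=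
  ringKrullDim_le_of_surjective (Ideal.Quotient.factor h) (Ideal.Quotient.factor_surjective h)

/-- The dimension of a quotient is bounded by the dimensions at the primes containing the ideal. -/
theorem dim_le_of_forall_prime {J : Ideal R} {D : WithBot ℕ∞}
    (h : ∀ x : PrimeSpectrum R, J ≤ x.asIdeal → ringKrullDim (R ⧸ x.asIdeal) ≤ D) :
    ringKrullDim (R ⧸ J) ≤ D := by
  rw [ringKrullDim_quotient]
  refine iSup_le fun l => ?_
  refine le_trans ?_ (h l.head.1 l.head.2)
  rw [ringKrullDim_quotient]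
  exact le_iSup_of_le (⟨l.length, fun i => ⟨(l i).1,
    fun y hy => (show (l 0).1.asIdeal ≤ (l i).1.asIdeal from l.monotone (Fin.zero_le i)) hy⟩,
    fun i => l.step i⟩ : LTSeries (PrimeSpectrum.zeroLocus (R := R) (l.head.1.asIdeal : Set R))) le_rfl

theorem dim_inf_le {a b : Ideal R} {D : WithBot ℕ∞} (ha : ringKrullDim (R ⧸ a) ≤ D)
    (hb : ringKrullDim (R ⧸ b) ≤ D) : ringKrullDim (R ⧸ (a ⊓ b)) ≤ D :=
  dim_le_of_forall_prime fun x hx => (x.2.inf_le.mp hx).elim
    (fun h => (dim_antitone h).trans ha) fun h => (dim_antitone h).trans hb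

variable [IsNoetherianRing R] [IsLocalRing R]

theorem exists_dim_eq {I : Ideal R} (hI : I ≠ ⊤) : ∃ d : ℕ, ringKrullDim (R ⧸ I) = d := by
  have : Nontrivial (R ⧸ I) := Ideal.Quotient.nontrivial_iff.mpr hI
  have : IsLocalRing (R ⧸ I) := IsLocalRing.of_surjective' _ Ideal.Quotient.mk_surjective
  exact Gor.Basic.exists_natCast_ringKrullDim

theorem sup_span_ne_top {I : Ideal R} (hI : I ≠ ⊤) {x : R} (hx : x ∈ maximalIdeal R) :
    I ⊔ Ideal.span {x} ≠ ⊤ := fun h => (maximalIdeal.isMaximal R).ne_top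
  (top_le_iff.mp (h ▸ sup_le (le_maximalIdeal hI) ((Ideal.span_singleton_le_iff_mem _).mpr hx)))

/-- Cutting by one element drops the dimension by at most one. -/
theorem dim_le_sup_succ (I : Ideal R) {x : R} (hx : x ∈ maximalIdeal R) :
    ringKrullDim (R ⧸ I) ≤ ringKrullDim (R ⧸ (I ⊔ Ideal.span {x})) + 1 := by
  have h := Module.supportDim_le_supportDim_quotSMulTop_succ (M := R ⧸ I) hx
  rw [Module.supportDim_quotient_eq_ringKrullDim] at h
  refine h.trans (le_of_eq ?_)
  congr 1
  rw [Module.supportDim, Module.support_quotSMulTop, Module.support_eq_zeroLocus,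
    Ideal.annihilator_quotient, ← PrimeSpectrum.zeroLocus_span {x}, ← PrimeSpectrum.zeroLocus_sup,
    ringKrullDim_quotient]

theorem exists_param {J : Ideal R} (hJ : J ≠ ⊤) {d : ℕ}
    (hd : ringKrullDim (R ⧸ J) = ((d + 1 : ℕ) : WithBot ℕ∞)) :
    ∃ x ∈ maximalIdeal R, ringKrullDim (R ⧸ (J ⊔ Ideal.span {x})) = d := by
  have hfin : {P | P ∈ J.minimalPrimes ∧ ¬ P.IsMaximal}.Finite :=
    (J.finite_minimalPrimes_of_isNoetherianRing).subset fun P hP => hP.1
  have hnot : ¬ (maximalIdeal R : Set R) ⊆ ⋃ P ∈ {P | P ∈ J.minimalPrimes ∧ ¬ P.IsMaximal}, (P : Set R) := by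
    intro hsub
    obtain ⟨P, hP, hle⟩ := (Ideal.subset_union_prime_finite hfin ⊤ ⊤
      fun P hP _ _ => hP.1.1.1).mp hsub
    exact hP.2 (((maximalIdeal.isMaximal R).eq_of_le hP.1.1.1.ne_top hle) ▸ maximalIdeal.isMaximal R)
  obtain ⟨x, hx, hxP⟩ := Set.not_subset.mp hnot
  refine ⟨x, hx, ?_⟩
  have hpos : ¬ ∀ P : Ideal R, P.IsPrime → J ≤ P → P ∈ J.minimalPrimes := fun h => by
    have hm := h (maximalIdeal R) inferInstance (le_maximalIdeal hJ)
    have h0 : ringKrullDim (R ⧸ J) ≤ 0 := dim_le_of_forall_prime fun y hy => by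
      have := (h y.asIdeal y.2 hy)
      have heq : y.asIdeal = maximalIdeal R :=
        le_antisymm (le_maximalIdeal y.2.ne_top) (hm.2 this.1 (le_maximalIdeal y.2.ne_top))
      rw [heq, ringKrullDim_eq_zero_of_isField ((Ideal.Quotient.maximal_ideal_iff_isField_quotient _).mp
        (maximalIdeal.isMaximal R))]
    rw [hd] at h0
    exact absurd (show d + 1 ≤ 0 by exact_mod_cast h0) (by omega)
  have hdrop := EGA41Lib.ringKrullDim_quotient_sup_drop (J := J) (Q := maximalIdeal R)
    (le_maximalIdeal hJ) (y := x) (by rw [IsLocalRing.ringJacobson_eq_maximalIdeal]; exact hx)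
    (fun P hP hxp => hxP (Set.mem_biUnion hP hxp)) hpos
  obtain ⟨e, he⟩ := exists_dim_eq (sup_span_ne_top hJ hx)
  rw [he, hd] at hdrop
  rw [he]
  have : e + 1 = d + 1 := by exact_mod_cast hdrop
  rw [show e = d by omega]

theorem cdLE_congr {I J : Ideal R} (h : I.radical = J.radical) {k : ℕ}
    (hI : _root_.LocCoh.CdLE R I k) : _root_.LocCoh.CdLE R J k := fun M _ _ i hi =>
  (LocCoh.subsingleton_H_iff_of_radical_eq h i (ModuleCat.of R M)).mp (hI M i hi)

theorem radical_eq_maximalIdeal_of_dim_zero {J : Ideal R} (hJ : J ≠ ⊤)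
    (h : ringKrullDim (R ⧸ J) = 0) : J.radical = (maximalIdeal R).radical := by
  refine le_antisymm (Ideal.radical_mono (le_maximalIdeal hJ)) ?_
  rw [((maximalIdeal.isMaximal R).isPrime).radical, Ideal.radical_eq_sInf]
  refine le_sInf fun q ⟨hJq, hq⟩ => ?_
  by_contra hne
  have hlt : q < maximalIdeal R := lt_of_le_not_ge (le_maximalIdeal hq.ne_top) hne
  have h1 : (1 : WithBot ℕ∞) ≤ ringKrullDim (R ⧸ J) := by
    rw [ringKrullDim_quotient]
    let a : PrimeSpectrum.zeroLocus (R := R) (J : Set R) := ⟨⟨q, hq⟩, hJq⟩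
    let b : PrimeSpectrum.zeroLocus (R := R) (J : Set R) :=
      ⟨⟨maximalIdeal R, inferInstance⟩, le_maximalIdeal hJ⟩
    exact Order.LTSeries.length_le_krullDim ((RelSeries.singleton _ a).snoc b hlt)
  rw [h] at h1
  exact absurd h1 (not_le.mpr zero_lt_one)

theorem nontrivial_H_of_dim_zero {J : Ideal R} (hJ : J ≠ ⊤)
    (h : ringKrullDim (R ⧸ J) = 0) {n : ℕ} (hn : ringKrullDim R = n) :
    Nontrivial (_root_.LocCoh.H J n R) := by
  by_contra hc
  have h1 := (LocCoh.subsingleton_H_iff_of_radical_eq (radical_eq_maximalIdeal_of_dim_zero hJ h) n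
    (ModuleCat.of R R)).mp (not_nontrivial_iff_subsingleton.mp hc)
  exact not_nontrivial_iff_subsingleton.mpr h1 (LocCoh.nontrivial_H_supportDim (ModuleCat.of R R) n
    ((Module.supportDim_self_eq_ringKrullDim (R := R)).trans hn))

/-- `dim R ≤ cd(I) + dim R/I`. -/
theorem dim_le_cd_add {n : ℕ} (hn : ringKrullDim R = n) : ∀ (d : ℕ) (I : Ideal R), I ≠ ⊤ →
    ringKrullDim (R ⧸ I) = d → ∀ k, _root_.LocCoh.CdLE R I k → n ≤ k + d := by
  intro d
  induction d with
  | zero =>
    intro I hI hd k hk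
    by_contra hnk
    exact not_nontrivial_iff_subsingleton.mpr (hk R n (by omega)) (nontrivial_H_of_dim_zero hI hd hn)
  | succ d ih =>
    intro I hI hd k hk
    obtain ⟨x, hx, hdx⟩ := exists_param hI hd
    have := ih _ (sup_span_ne_top hI hx) hdx (k + 1)
      (LocCoh.cdLE_sup _ _ k 1 hk (LocCoh.cdLE_singleton x))
    omega

theorem radical_sup_inf_sup (a b X : Ideal R) :
    ((a ⊔ X) ⊓ (b ⊔ X)).radical = ((a ⊓ b) ⊔ X).radical := by
  refine le_antisymm ?_ (Ideal.radical_mono ?_)
  · rw [Ideal.radical_inf, ← Ideal.radical_mul]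
    refine Ideal.radical_mono ?_
    refine Ideal.mul_le.mpr fun y hy z hz => ?_
    obtain ⟨y₁, hy₁, y₂, hy₂, rfl⟩ := Submodule.mem_sup.mp hy
    obtain ⟨z₁, hz₁, z₂, hz₂, rfl⟩ := Submodule.mem_sup.mp hz
    rw [show (y₁ + y₂) * (z₁ + z₂) = y₁ * z₁ + (y₁ * z₂ + y₂ * (z₁ + z₂)) by ring]
    exact add_mem (Submodule.mem_sup_left ⟨a.mul_mem_right _ hy₁, b.mul_mem_left _ hz₁⟩)
      (Submodule.mem_sup_right (add_mem (X.mul_mem_left _ hz₂) (X.mul_mem_right _ hy₂)))
  · exact sup_le (inf_le_inf le_sup_left le_sup_left) (le_inf le_sup_right le_sup_right)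

/-- The connectedness bound for complete local domains. -/
theorem dim_le_of_domain [IsDomain R] [IsAdicComplete (maximalIdeal R) R] {n : ℕ}
    (hn : ringKrullDim R = n) : ∀ (d : ℕ) (a b : Ideal R), a ≠ ⊤ → b ≠ ⊤ →
    ringKrullDim (R ⧸ (a ⊔ b)) = d → (d : WithBot ℕ∞) < ringKrullDim (R ⧸ a) →
    (d : WithBot ℕ∞) < ringKrullDim (R ⧸ b) → ∀ k, _root_.LocCoh.CdLE R (a ⊓ b) k → n ≤ k + d + 1 := by
  intro d
  induction d with
  | zero =>
    intro a b ha hb hd hda hdb k hk
    rcases n with - | j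
    · omega
    by_contra hjk
    have hA := HLVT.subsingleton_H_domain R (j + 1) hn a (by simpa using hda)
    have hB := HLVT.subsingleton_H_domain R (j + 1) hn b (by simpa using hdb)
    have hab : a ⊔ b ≠ ⊤ := fun h => (maximalIdeal.isMaximal R).ne_top
      (top_le_iff.mp (h ▸ sup_le (le_maximalIdeal ha) (le_maximalIdeal hb)))
    obtain ⟨δ, hδ, -⟩ := (ThreeFunctor.mayerVietoris a b (ModuleCat.of R R) j).2
    have hC : Subsingleton (LocCoh.H (a ⊓ b) j R) := hk R j (by omega)
    have hsub : Subsingleton (LocCoh.H (a ⊔ b) (j + 1) R) := subsingleton_of_forall_eq 0 fun z => by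
      obtain ⟨w, rfl⟩ := (hδ z).mp (Prod.ext (hA.elim _ _) (hB.elim _ _))
      exact (congrArg δ (hC.elim w 0)).trans δ.map_zero
    exact not_nontrivial_iff_subsingleton.mpr hsub
      (nontrivial_H_of_dim_zero hab (by simpa using hd) hn)
  | succ d ih =>
    intro a b ha hb hd hda hdb k hk
    have hab : a ⊔ b ≠ ⊤ := fun h => (maximalIdeal.isMaximal R).ne_top
      (top_le_iff.mp (h ▸ sup_le (le_maximalIdeal ha) (le_maximalIdeal hb)))
    obtain ⟨x, hx, hdx⟩ := exists_param hab hd
    have hlt : ∀ c : Ideal R, c ≠ ⊤ → ((d + 1 : ℕ) : WithBot ℕ∞) < ringKrullDim (R ⧸ c) →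
        (d : WithBot ℕ∞) < ringKrullDim (R ⧸ (c ⊔ Ideal.span {x})) := by
      intro c hc hdc
      obtain ⟨e, he⟩ := exists_dim_eq (sup_span_ne_top hc hx)
      have h := hdc.trans_le (dim_le_sup_succ c hx)
      rw [he] at h ⊢
      have h' : d + 1 < e + 1 := by exact_mod_cast h
      exact_mod_cast (show d < e by omega)
    have := ih (a ⊔ Ideal.span {x}) (b ⊔ Ideal.span {x}) (sup_span_ne_top ha hx) (sup_span_ne_top hb hx)
      (by rw [← sup_sup_distrib_right]; exact hdx) (hlt a ha hda) (hlt b hb hdb) (k + 1)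
      (cdLE_congr (radical_sup_inf_sup a b _).symm
        (LocCoh.cdLE_sup _ _ k 1 hk (LocCoh.cdLE_singleton x)))
    omega

variable [IsAdicComplete (maximalIdeal R) R]

/-- The general connectedness bound. -/
theorem min_connDim_subdim_le (a b : Ideal R) (ha : a ≠ ⊤) (hb : b ≠ ⊤)
    (hab : ringKrullDim (R ⧸ (a ⊔ b)) < min (ringKrullDim (R ⧸ a)) (ringKrullDim (R ⧸ b)))
    (k : ℕ) (hk : _root_.LocCoh.CdLE R (a ⊓ b) k) :
    min (_root_.LocCoh.connDim (PrimeSpectrum R) + 1) (_root_.LocCoh.subdim (PrimeSpectrum R)) ≤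
      ringKrullDim (R ⧸ (a ⊔ b)) + (k : WithBot ℕ∞) + 1 := by
  classical
  have habt : a ⊔ b ≠ ⊤ := fun h => (maximalIdeal.isMaximal R).ne_top
    (top_le_iff.mp (h ▸ sup_le (le_maximalIdeal ha) (le_maximalIdeal hb)))
  obtain ⟨δ, hδ⟩ := exists_dim_eq habt
  rw [hδ] at hab ⊢
  obtain ⟨hda, hdb⟩ := lt_min_iff.mp hab
  by_cases hboth : ∃ p ∈ minimalPrimes R, (δ : WithBot ℕ∞) < ringKrullDim (R ⧸ (a ⊔ p)) ∧
      (δ : WithBot ℕ∞) < ringKrullDim (R ⧸ (b ⊔ p))
  · obtain ⟨p, hp, hpa, hpb⟩ := hboth
    have := hp.1.1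
    refine (min_le_right _ _).trans ((iInf₂_le (f := fun (Z : Set (PrimeSpectrum R))
      (_ : Z ∈ irreducibleComponents (PrimeSpectrum R)) => topologicalKrullDim ↥Z)
      (zeroLocus (p : Set R))
      (by rw [← PrimeSpectrum.zeroLocus_minimalPrimes]; exact ⟨p, hp, rfl⟩)).trans ?_)
    rw [dim_zeroLocus]
    let S := R ⧸ p
    have : IsLocalRing S := IsLocalRing.of_surjective' _ Ideal.Quotient.mk_surjective
    have : IsAdicComplete (maximalIdeal S) S := by
      have h1 : IsAdicComplete ((maximalIdeal R).map (algebraMap R S)) S :=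
        (IsAdicComplete.map_algebraMap_iff (I := maximalIdeal R) (M := S)).2
          (Adic.isAdicComplete_of_finite (maximalIdeal R))
      rwa [Ideal.Quotient.algebraMap_eq,
        IsLocalRing.map_maximalIdeal_of_surjective _ Ideal.Quotient.mk_surjective] at h1
    obtain ⟨n, hn⟩ := exists_dim_eq hp.1.1.ne_top
    have hq : ∀ c : Ideal R, ringKrullDim (S ⧸ c.map (algebraMap R S)) = ringKrullDim (R ⧸ (c ⊔ p)) :=
      fun c => by
        rw [Ideal.Quotient.algebraMap_eq, sup_comm]
        exact ringKrullDim_eq_of_ringEquiv (DoubleQuot.quotQuotEquivQuotSup p c)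
    have hne : ∀ c : Ideal R, c ≠ ⊤ → c.map (algebraMap R S) ≠ ⊤ := fun c hc h =>
      (maximalIdeal.isMaximal R).ne_top (top_le_iff.mp (by
        have h2 := congrArg (Ideal.comap (algebraMap R S)) h
        rw [Ideal.comap_top, Ideal.Quotient.algebraMap_eq,
          Ideal.comap_map_of_surjective _ Ideal.Quotient.mk_surjective, ← RingHom.ker_eq_comap_bot,
          Ideal.mk_ker] at h2
        rw [← h2]
        exact sup_le (le_maximalIdeal hc) (le_maximalIdeal hp.1.1.ne_top)))
    obtain ⟨e, he⟩ := exists_dim_eq (hne (a ⊔ b) habt)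
    have hek : e ≤ δ := by
      have h1 : (e : WithBot ℕ∞) ≤ δ := by
        rw [← he, hq, ← hδ]; exact dim_antitone le_sup_left
      exact_mod_cast h1
    have hcd : _root_.LocCoh.CdLE S (a.map (algebraMap R S) ⊓ b.map (algebraMap R S)) k := by
      refine cdLE_congr ?_ (LocCoh.cdLE_map hk)
      refine le_antisymm (Ideal.radical_mono (le_inf (Ideal.map_mono inf_le_left)
        (Ideal.map_mono inf_le_right))) ?_
      rw [Ideal.radical_inf, ← Ideal.radical_mul, ← Ideal.map_mul]
      exact Ideal.radical_mono (Ideal.map_mono Ideal.mul_le_inf)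
    have := dim_le_of_domain hn e _ _ (hne a ha) (hne b hb) (by rw [← Ideal.map_sup]; exact he)
      (by rw [hq]; exact lt_of_le_of_lt (by exact_mod_cast hek) hpa)
      (by rw [hq]; exact lt_of_le_of_lt (by exact_mod_cast hek) hpb) k hcd
    rw [hn]
    exact_mod_cast (show n ≤ δ + k + 1 by omega)
  · push Not at hboth
    refine (min_le_left _ _).trans (add_le_add_left ?_ 1)
    let Sa : Set (Ideal R) := {p ∈ minimalPrimes R | (δ : WithBot ℕ∞) < ringKrullDim (R ⧸ (a ⊔ p))}
    let Sb : Set (Ideal R) := minimalPrimes R \ Sa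
    have hex : ∀ c : Ideal R, (δ : WithBot ℕ∞) < ringKrullDim (R ⧸ c) →
        ∃ p ∈ minimalPrimes R, (δ : WithBot ℕ∞) < ringKrullDim (R ⧸ (c ⊔ p)) := by
      intro c hc
      by_contra h
      push Not at h
      refine hc.not_ge (dim_le_of_forall_prime fun x hx => ?_)
      have := x.2
      obtain ⟨p, hp, hpx⟩ := Ideal.exists_minimalPrimes_le (bot_le : (⊥ : Ideal R) ≤ x.asIdeal)
      exact (dim_antitone (sup_le hx hpx)).trans (h p hp)
    have hA : Sa.Nonempty := let ⟨p, hp, h⟩ := hex a hda; ⟨p, hp, h⟩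
    have hB : Sb.Nonempty := let ⟨p, hp, h⟩ := hex b hdb
      ⟨p, hp, fun hS => (hboth p hp hS.2).not_gt h⟩
    let comp : Ideal R → Set (PrimeSpectrum R) := fun p => zeroLocus (p : Set R)
    have hcomp : comp '' minimalPrimes R = irreducibleComponents (PrimeSpectrum R) := by
      rw [← PrimeSpectrum.zeroLocus_minimalPrimes]; rfl
    rw [ConnDim.connDim_eq]
    refine iInf_le_of_le (comp '' Sa) (iInf₂_le_of_le (comp '' Sb)
      ⟨hcomp ▸ Set.image_mono fun p hp => hp.1, hcomp ▸ Set.image_mono Set.sdiff_subset,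
        hA.image _, hB.image _, ?_⟩ ?_)
    · rw [← Set.image_union, Set.union_sdiff_self, ← hcomp, Set.union_eq_right.mpr fun p hp => hp.1]
    have hcl : IsClosed (⋃₀ (comp '' Sa) ∩ ⋃₀ (comp '' Sb)) :=
      (ConnDim.isClosed_sUnion (hcomp ▸ Set.image_mono fun p hp => hp.1)).inter
        (ConnDim.isClosed_sUnion (hcomp ▸ Set.image_mono Set.sdiff_subset))
    obtain ⟨J, hJ⟩ := (PrimeSpectrum.isClosed_iff_zeroLocus_ideal _).mp hcl
    rw [hJ, dim_zeroLocus]
    refine dim_le_of_forall_prime fun x hx => ?_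
    have hxZ : x ∈ ⋃₀ (comp '' Sa) ∩ ⋃₀ (comp '' Sb) := by rw [hJ]; exact hx
    obtain ⟨⟨_, ⟨p, hp, rfl⟩, hpx⟩, _, ⟨q, hq, rfl⟩, hqx⟩ := hxZ
    have hq' : ringKrullDim (R ⧸ (a ⊔ q)) ≤ δ := not_lt.mp fun h => hq.2 ⟨hq.1, h⟩
    have hxa : ringKrullDim (R ⧸ (a ⊔ x.asIdeal)) ≤ δ := (dim_antitone (sup_le_sup_left hqx a)).trans hq'
    have hxb : ringKrullDim (R ⧸ (b ⊔ x.asIdeal)) ≤ δ :=
      (dim_antitone (sup_le_sup_left hpx b)).trans (hboth p hp.1 hp.2)
    let S := R ⧸ x.asIdeal
    have : IsLocalRing S := IsLocalRing.of_surjective' _ Ideal.Quotient.mk_surjective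
    obtain ⟨n, hn⟩ := exists_dim_eq x.2.ne_top
    rw [hn]
    have hne : (a ⊓ b).map (algebraMap R S) ≠ ⊤ := fun h =>
      (maximalIdeal.isMaximal S).ne_top (top_le_iff.mp (h ▸ ((Ideal.map_mono
        (inf_le_left.trans (le_maximalIdeal ha))).trans_eq (by
          rw [Ideal.Quotient.algebraMap_eq,
            IsLocalRing.map_maximalIdeal_of_surjective _ Ideal.Quotient.mk_surjective]))))
    obtain ⟨e, he⟩ := exists_dim_eq hne
    have hle : (e : WithBot ℕ∞) ≤ δ := by
      rw [← he, Ideal.Quotient.algebraMap_eq,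
        ringKrullDim_eq_of_ringEquiv (DoubleQuot.quotQuotEquivQuotSup x.asIdeal (a ⊓ b))]
      refine (dim_le_of_forall_prime fun y hy => ?_)
      rcases y.2.inf_le.mp ((le_sup_right).trans hy) with h | h
      · exact (dim_antitone (sup_le h (le_sup_left.trans hy))).trans hxa
      · exact (dim_antitone (sup_le h (le_sup_left.trans hy))).trans hxb
    have := dim_le_cd_add hn e _ hne he k (LocCoh.cdLE_map hk)
    have hek : e ≤ δ := by exact_mod_cast hle
    exact_mod_cast (show n ≤ δ + k by omega)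

/-- The bound on the connectedness dimension of a quotient. -/
theorem min_connDim_subdim_le_quotient (a : Ideal R) (ha : a ≠ ⊤) (k : ℕ)
    (hk : _root_.LocCoh.CdLE R a k) :
    min (_root_.LocCoh.connDim (PrimeSpectrum R) + 1) (_root_.LocCoh.subdim (PrimeSpectrum R)) ≤
      _root_.LocCoh.connDim (PrimeSpectrum (R ⧸ a)) + (k : WithBot ℕ∞) + 1 := by
  classical
  have : Nontrivial (R ⧸ a) := Ideal.Quotient.nontrivial_iff.mpr ha
  set T := PrimeSpectrum (R ⧸ a)
  by_cases hirr : irreducibleComponents T |>.Subsingleton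
  · -- `V(a)` is irreducible
    obtain ⟨C, hC⟩ := ConnDim.exists_component (T := T)
    have hCu : C = Set.univ := by
      rw [← ConnDim.sUnion_components (T := T), hirr.eq_singleton_of_mem hC, Set.sUnion_singleton]
    have : IrreducibleSpace T := { toPreirreducibleSpace := ⟨hCu ▸ hC.1.2⟩, toNonempty := inferInstance }
    have hsub : (topologicalKrullDim T) ≤ _root_.LocCoh.connDim T := by
      refine le_iInf₂ fun Z ⟨hZ, hconn⟩ => ?_
      rcases Set.eq_empty_or_nonempty Zᶜ with he | hne
      · rw [Set.compl_empty_iff] at he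
        subst he
        exact ConnDim.dim_univ.ge
      · exact absurd ⟨hne, ((IrreducibleSpace.isIrreducible_univ T).2.open_subset hZ.isOpen_compl
          (Set.subset_univ _)).isPreconnected⟩ hconn
    refine le_trans ?_ (add_le_add_left (add_le_add_left hsub _) 1)
    rw [PrimeSpectrum.topologicalKrullDim_eq_ringKrullDim]
    obtain ⟨C', hC'⟩ := ConnDim.exists_component (T := PrimeSpectrum R)
    obtain ⟨p, hp, rfl⟩ := (Set.ext_iff.mp (PrimeSpectrum.zeroLocus_minimalPrimes (R := R)) C').mpr hC'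
    have := hp.1.1
    refine (min_le_right _ _).trans ((iInf₂_le (f := fun (Z : Set (PrimeSpectrum R))
      (_ : Z ∈ irreducibleComponents (PrimeSpectrum R)) => topologicalKrullDim ↥Z) _ hC').trans ?_)
    rw [Function.comp_apply, dim_zeroLocus]
    let S := R ⧸ p
    have : IsLocalRing S := IsLocalRing.of_surjective' _ Ideal.Quotient.mk_surjective
    obtain ⟨n, hn⟩ := exists_dim_eq hp.1.1.ne_top
    have hne : a.map (algebraMap R S) ≠ ⊤ := fun h =>
      (maximalIdeal.isMaximal S).ne_top (top_le_iff.mp (h ▸ ((Ideal.map_mono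
        (le_maximalIdeal ha)).trans_eq (by
          rw [Ideal.Quotient.algebraMap_eq,
            IsLocalRing.map_maximalIdeal_of_surjective _ Ideal.Quotient.mk_surjective]))))
    obtain ⟨e, he⟩ := exists_dim_eq hne
    obtain ⟨δ, hδ⟩ := exists_dim_eq ha
    have hle : (e : WithBot ℕ∞) ≤ δ := by
      rw [← he, ← hδ, Ideal.Quotient.algebraMap_eq,
        ringKrullDim_eq_of_ringEquiv (DoubleQuot.quotQuotEquivQuotSup p a)]
      exact dim_antitone le_sup_right
    have := dim_le_cd_add hn e _ hne he k (LocCoh.cdLE_map hk)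
    have hek : e ≤ δ := by exact_mod_cast hle
    rw [hn, hδ]
    exact_mod_cast (show n ≤ δ + k + 1 by omega)
  · have hkey : ∀ (A B : Set (Set T)), A ⊆ irreducibleComponents T → B ⊆ irreducibleComponents T →
        A.Nonempty → B.Nonempty → A ∪ B = irreducibleComponents T → Disjoint A B →
        min (_root_.LocCoh.connDim (PrimeSpectrum R) + 1) (_root_.LocCoh.subdim (PrimeSpectrum R)) ≤
          topologicalKrullDim ↥(⋃₀ A ∩ ⋃₀ B) + (k : WithBot ℕ∞) + 1 := by
      intro A B hA hB hAn hBn hAB hdisj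
      set F₁ := ⋃₀ A with hF₁
      set F₂ := ⋃₀ B with hF₂
      obtain ⟨ā₁, h1⟩ := (PrimeSpectrum.isClosed_iff_zeroLocus_ideal _).mp (ConnDim.isClosed_sUnion hA)
      obtain ⟨ā₂, h2⟩ := (PrimeSpectrum.isClosed_iff_zeroLocus_ideal _).mp (ConnDim.isClosed_sUnion hB)
      rw [← hF₁] at h1
      rw [← hF₂] at h2
      let π := Ideal.Quotient.mk a
      have hq : ∀ c : Ideal (R ⧸ a), ringKrullDim (R ⧸ c.comap π) = ringKrullDim ((R ⧸ a) ⧸ c) :=
        fun c => ringKrullDim_eq_of_ringEquiv ((Ideal.quotEquivOfEq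
          (show c.comap π = RingHom.ker ((Ideal.Quotient.mk c).comp π) by
            rw [← RingHom.comap_ker, Ideal.mk_ker])).trans
          (RingHom.quotientKerEquivOfSurjective (Ideal.Quotient.mk_surjective.comp Ideal.Quotient.mk_surjective)))
      have hsup : ā₁.comap π ⊔ ā₂.comap π = (ā₁ ⊔ ā₂).comap π := by
        apply le_antisymm (sup_le (Ideal.comap_mono le_sup_left) (Ideal.comap_mono le_sup_right))
        intro y hy
        obtain ⟨u, hu, v, hv, huv⟩ := Submodule.mem_sup.mp (Ideal.mem_comap.mp hy)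
        obtain ⟨u, rfl⟩ := Ideal.Quotient.mk_surjective u
        obtain ⟨v, rfl⟩ := Ideal.Quotient.mk_surjective v
        have hva : y - u - v ∈ ā₁.comap π := by
          rw [Ideal.mem_comap, map_sub, map_sub, ← huv, add_sub_cancel_left, sub_self]
          exact zero_mem _
        rw [show y = (u + (y - u - v)) + v by ring]
        exact add_mem (Submodule.mem_sup_left (add_mem hu hva)) (Submodule.mem_sup_right hv)
      have hne : ∀ (C : Set (Set T)) (c : Ideal (R ⧸ a)), C ⊆ irreducibleComponents T → C.Nonempty →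
          ⋃₀ C = zeroLocus (c : Set (R ⧸ a)) → c.comap π ≠ ⊤ := by
        intro C c hC ⟨Z, hZ⟩ hc htop
        obtain ⟨z, hz⟩ := (hC hZ).1.1
        have hz' : c ≤ z.asIdeal := by
          have : z ∈ zeroLocus (c : Set (R ⧸ a)) := hc ▸ ⟨Z, hZ, hz⟩
          exact this
        rw [Ideal.comap_eq_top_iff] at htop
        exact z.2.ne_top (top_le_iff.mp (htop ▸ hz'))
      have hlt : ∀ (C D : Set (Set T)) (c d : Ideal (R ⧸ a)), C ⊆ irreducibleComponents T →
          D ⊆ irreducibleComponents T → C.Nonempty → Disjoint C D →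
          ⋃₀ C = zeroLocus (c : Set (R ⧸ a)) → ⋃₀ D = zeroLocus (d : Set (R ⧸ a)) →
          ringKrullDim (R ⧸ (c.comap π ⊔ d.comap π)) < ringKrullDim (R ⧸ c.comap π) := by
        intro C D c d hC hD hCn hdisj hc hd
        have hctop := hne C c hC hCn hc
        obtain ⟨m, hm⟩ := exists_dim_eq hctop
        rw [hm]
        rcases eq_or_ne (c.comap π ⊔ d.comap π) ⊤ with htop | htop
        · haveI : Subsingleton (R ⧸ (c.comap π ⊔ d.comap π)) :=
            Ideal.Quotient.subsingleton_iff.mpr htop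
          rw [ringKrullDim_eq_bot_of_subsingleton]
          exact WithBot.bot_lt_coe _
        obtain ⟨e, he⟩ := exists_dim_eq htop
        rw [he]
        have hem : (e : WithBot ℕ∞) + 1 ≤ m := by
          rw [← he]
          rcases Nat.eq_zero_or_pos m with rfl | hmp
          · exfalso
            have hr := radical_eq_maximalIdeal_of_dim_zero hctop (by simpa using hm)
            -- the unique point of `V(c)` lies on a component of `D`
            obtain ⟨Z, hZ⟩ := hCn
            have hZm : ∀ z ∈ Z, z.asIdeal.comap π = maximalIdeal R := fun z hz => by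
              have hz' : c ≤ z.asIdeal := by
                have : z ∈ zeroLocus (c : Set (R ⧸ a)) := hc ▸ ⟨Z, hZ, hz⟩
                exact this
              refine le_antisymm (le_maximalIdeal (Ideal.comap_ne_top π z.2.ne_top)) ?_
              rw [← ((maximalIdeal.isMaximal R).isPrime).radical, ← hr]
              exact (z.2.comap π).radical_le_iff.mpr (Ideal.comap_mono hz')
            have hsubD : Z ⊆ ⋃₀ D := fun z hz => by
              rw [hd]
              have h1 : d.comap π ≤ z.asIdeal.comap π :=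
                le_sup_right.trans ((le_maximalIdeal htop).trans_eq (hZm z hz).symm)
              show (d : Set (R ⧸ a)) ⊆ z.asIdeal
              intro w hw
              obtain ⟨w, rfl⟩ := Ideal.Quotient.mk_surjective w
              exact h1 hw
            exact hdisj.le_bot ⟨hZ, ConnDim.mem_of_subset_sUnion (hC hZ) hD hsubD⟩
          · obtain ⟨m, rfl⟩ := Nat.exists_eq_succ_of_ne_zero hmp.ne'
            suffices ringKrullDim (R ⧸ (c.comap π ⊔ d.comap π)) ≤ m by
              exact (add_le_add_left this 1).trans (by norm_cast)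
            refine dim_le_of_forall_prime fun x hx => ?_
            -- `x` is a proper specialisation of the generic point of a component in `C`
            have hxc : c.comap π ≤ x.asIdeal := le_sup_left.trans hx
            have hxa : RingHom.ker π ≤ x.asIdeal := (Ideal.comap_mono bot_le).trans hxc
            let z : T := ⟨x.asIdeal.map π, Ideal.map_isPrime_of_surjective Ideal.Quotient.mk_surjective hxa⟩
            have hzx : z.asIdeal.comap π = x.asIdeal := by
              rw [show z.asIdeal = x.asIdeal.map π from rfl,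
                Ideal.comap_map_of_surjective _ Ideal.Quotient.mk_surjective,
                ← RingHom.ker_eq_comap_bot]
              exact sup_eq_left.mpr hxa
            have hzc : z ∈ ⋃₀ C := by
              rw [hc]
              intro w hw
              obtain ⟨w, rfl⟩ := Ideal.Quotient.mk_surjective w
              exact Ideal.mem_map_of_mem π (hxc hw)
            have hzd : z ∈ ⋃₀ D := by
              rw [hd]
              intro w hw
              obtain ⟨w, rfl⟩ := Ideal.Quotient.mk_surjective w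
              exact Ideal.mem_map_of_mem π (le_sup_right.trans hx hw)
            obtain ⟨Z, hZ, hzZ⟩ := hzc
            have hZ' := hC hZ
            obtain ⟨g, hg, hgeq⟩ := (Set.ext_iff.mp
              (PrimeSpectrum.zeroLocus_minimalPrimes (R := R ⧸ a)) Z).mpr hZ'
            subst hgeq
            have := hg.1.1
            have hne' : g ≠ z.asIdeal := fun e => by
              refine hdisj.le_bot ⟨hZ, ConnDim.mem_of_subset_sUnion hZ' hD fun w hw => ?_⟩
              rw [hd] at hzd ⊢
              have h1 : d ≤ g := e ▸ hzd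
              have h2 : g ≤ w.asIdeal := hw
              exact h1.trans h2
            have hglt : g.comap π < x.asIdeal := by
              rw [← hzx]
              refine lt_of_le_of_ne (Ideal.comap_mono hzZ) fun e => hne' ?_
              rw [← Ideal.map_comap_of_surjective _ Ideal.Quotient.mk_surjective g,
                ← Ideal.map_comap_of_surjective _ Ideal.Quotient.mk_surjective z.asIdeal]
              exact congrArg _ e
            have h3 := (Depth.ringKrullDim_quotient_succ_le (p := g.comap π) (q := x.asIdeal) hglt).trans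
              ((dim_antitone (Ideal.comap_mono (show c ≤ g by
                have hgZ : (⟨g, hg.1.1⟩ : T) ∈ ⋃₀ C := ⟨_, hZ, le_refl g⟩
                rw [hc] at hgZ
                exact hgZ))).trans hm.le)
            obtain ⟨f, hf⟩ := exists_dim_eq x.2.ne_top
            rw [hf] at h3 ⊢
            have : f + 1 ≤ m + 1 := by exact_mod_cast h3
            exact_mod_cast (show f ≤ m by omega)
        have : e + 1 ≤ m := by exact_mod_cast hem
        exact_mod_cast (show e < m by omega)
      have hinf : _root_.LocCoh.CdLE R (ā₁.comap π ⊓ ā₂.comap π) k := by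
        refine cdLE_congr ?_ hk
        rw [← Ideal.comap_inf, ← Ideal.comap_radical]
        have h0 : (ā₁ ⊓ ā₂).radical = (⊥ : Ideal (R ⧸ a)).radical := by
          rw [← PrimeSpectrum.vanishingIdeal_zeroLocus_eq_radical,
            ← PrimeSpectrum.vanishingIdeal_zeroLocus_eq_radical, PrimeSpectrum.zeroLocus_inf, ← h1, ← h2,
            hF₁, hF₂, ← Set.sUnion_union, hAB, ConnDim.sUnion_components, PrimeSpectrum.zeroLocus_bot]
        rw [h0, Ideal.comap_radical, ← RingHom.ker_eq_comap_bot, Ideal.mk_ker]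
      refine (min_connDim_subdim_le (ā₁.comap π) (ā₂.comap π) (hne A ā₁ hA hAn h1)
        (hne B ā₂ hB hBn h2) (lt_min (hlt A B ā₁ ā₂ hA hB hAn hdisj h1 h2)
          (by rw [sup_comm]; exact hlt B A ā₂ ā₁ hB hA hBn hdisj.symm h2 h1)) k hinf).trans (le_of_eq ?_)
      rw [h1, h2, ← PrimeSpectrum.zeroLocus_sup, dim_zeroLocus, hsup, hq]
    have hfin : (irreducibleComponents T).Finite :=
      TopologicalSpace.NoetherianSpace.finite_irreducibleComponents
    have hred : ∀ (A B : Set (Set T)), A ⊆ irreducibleComponents T → B ⊆ irreducibleComponents T →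
        A.Nonempty → B.Nonempty → A ∪ B = irreducibleComponents T → ∃ A' B' : Set (Set T),
        A' ⊆ irreducibleComponents T ∧ B' ⊆ irreducibleComponents T ∧ A'.Nonempty ∧ B'.Nonempty ∧
        A' ∪ B' = irreducibleComponents T ∧ Disjoint A' B' ∧ ⋃₀ A' ∩ ⋃₀ B' ⊆ ⋃₀ A ∩ ⋃₀ B := by
      intro A B hA hB hAn ⟨C, hC⟩ hAB
      by_cases h : irreducibleComponents T ⊆ A
      · refine ⟨irreducibleComponents T \ {C}, {C}, Set.sdiff_subset,
          Set.singleton_subset_iff.mpr (hB hC), ?_, Set.singleton_nonempty C, ?_,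
          Set.disjoint_sdiff_left, ?_⟩
        · by_contra hempty
          exact hirr ((Set.subsingleton_singleton (a := C)).anti
            (Set.sdiff_eq_empty.mp (Set.not_nonempty_iff_eq_empty.mp hempty)))
        · rw [Set.sdiff_union_self, Set.union_eq_left]
          exact Set.singleton_subset_iff.mpr (hB hC)
        · exact Set.inter_subset_inter (Set.sUnion_subset_sUnion (Set.sdiff_subset.trans h))
            (Set.sUnion_subset_sUnion (Set.singleton_subset_iff.mpr hC))
      · refine ⟨A, irreducibleComponents T \ A, hA, Set.sdiff_subset, hAn,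
          Set.sdiff_nonempty.mpr h, Set.union_sdiff_cancel hA, Set.disjoint_sdiff_right,
          Set.inter_subset_inter le_rfl (Set.sUnion_subset_sUnion fun D hD => ?_)⟩
        exact ((hAB ▸ hD.1 : D ∈ A ∪ B)).resolve_left hD.2
    -- the infimum is attained
    rw [show _root_.LocCoh.connDim T = _ from ConnDim.connDim_eq]
    generalize hc : (⨅ (A : Set (Set T)) (B : Set (Set T))
      (_ : A ⊆ irreducibleComponents T ∧ B ⊆ irreducibleComponents T ∧ A.Nonempty ∧ B.Nonempty ∧
        A ∪ B = irreducibleComponents T), topologicalKrullDim ↥(⋃₀ A ∩ ⋃₀ B)) = c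
    let V : Set (WithBot ℕ∞) := {v | ∃ A B : Set (Set T), (A ⊆ irreducibleComponents T ∧
      B ⊆ irreducibleComponents T ∧ A.Nonempty ∧ B.Nonempty ∧ A ∪ B = irreducibleComponents T) ∧
      v = topologicalKrullDim ↥(⋃₀ A ∩ ⋃₀ B)}
    obtain ⟨v, ⟨A, B, ⟨hA, hB, hAn, hBn, hAB⟩, rfl⟩, hmin⟩ :=
      (wellFounded_lt (α := WithBot ℕ∞)).has_min V ⟨_, irreducibleComponents T, irreducibleComponents T,
        ⟨le_rfl, le_rfl, ConnDim.exists_component, ConnDim.exists_component, Set.union_self _⟩, rfl⟩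
    have hvc : topologicalKrullDim ↥(⋃₀ A ∩ ⋃₀ B) ≤ c := by
      rw [← hc]
      exact le_iInf fun A' => le_iInf₂ fun B' h' => not_lt.mp (hmin _ ⟨A', B', h', rfl⟩)
    obtain ⟨A', B', hA', hB', hA'n, hB'n, hAB', hd', hsub⟩ := hred A B hA hB hAn hBn hAB
    exact (hkey A' B' hA' hB' hA'n hB'n hAB' hd').trans
      (add_le_add_left (add_le_add_left ((ConnDim.dim_mono hsub).trans hvc) _) 1)

end Dim

end Groth.Agent.LocCohSweep.HLVTConn
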