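import Groth.Agent.DualCx.LocalDuality
import Groth.Agent.DualCx.Normalized
import Groth.Agent.DualCx.LocalGlobal
import Groth.Agent.DualCx.ShriekExists
import Groth.Agent.DualCx.Gorenstein
import Groth.Agent.InjHull.Basic
import Groth.Agent.LocCoh.NonVanishing
import Groth.Agent.LocCohSweep.HLVT
import Mathlib.RingTheory.HopkinsLevitzki

/-!
# Local cohomology and localisation through local duality
-/

set_option autoImplicit false

universe u v

open CategoryTheory IsLocalRing

attribute [local instance] HasDerivedCategory.standard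

namespace Groth.Agent.LocCohSweep.DualityLocus

open DualCx
open Devissage (E)
open Dimfun (B Z deg)

section Cogen

variable {A : Type u} [CommRing A] [IsLocalRing A] {H : Type u} [AddCommGroup H] [Module A H]
  {f : ResidueField A →ₗ[A] H} (hf : _root_.InjHull.IsInjectiveHull f)

include hf in
theorem eq_zero_of_forall_hom {N : Type v} [AddCommGroup N] [Module A N] (n : N)
    (h : ∀ φ : N →ₗ[A] H, φ n = 0) : n = 0 := by
  by_contra hne
  have := hf.isInjective
  let I := LinearMap.ker (LinearMap.toSpanSingleton A N n)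
  have hI : I ≤ maximalIdeal A := le_maximalIdeal fun hI => hne (by
    have h1 : (1 : A) ∈ I := hI ▸ Submodule.mem_top
    simpa [I] using h1)
  let j : (A ⧸ I) →ₗ[A] N := I.liftQ (LinearMap.toSpanSingleton A N n) le_rfl
  have hj : Function.Injective j := LinearMap.ker_eq_bot.mp (Submodule.ker_liftQ_eq_bot _ _ _ le_rfl)
  let g : (A ⧸ I) →ₗ[A] H := f ∘ₗ I.liftQ (Algebra.linearMap A (ResidueField A)) (fun a ha => by
    rw [LinearMap.mem_ker]
    exact (residue_eq_zero_iff a).mpr (hI ha))
  obtain ⟨φ, hφ⟩ := (Module.Baer.of_injective this).extension_property j hj g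
  have h1 : g (Submodule.Quotient.mk 1) = 0 := by
    rw [← hφ, LinearMap.comp_apply]
    rw [show j (Submodule.Quotient.mk 1) = n from one_smul A n]
    exact h φ
  have h2 : f 1 = 0 := h1
  exact one_ne_zero (hf.injective (h2.trans (map_zero f).symm))

include hf in
theorem annihilator_hom {N : Type v} [AddCommGroup N] [Module A N] :
    Module.annihilator A (N →ₗ[A] H) = Module.annihilator A N := by
  ext a
  simp only [Module.mem_annihilator]
  refine ⟨fun h n => eq_zero_of_forall_hom hf _ fun φ => ?_, fun h φ => LinearMap.ext fun n => ?_⟩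
  · rw [map_smul]
    exact LinearMap.congr_fun (h φ) n
  · rw [LinearMap.smul_apply, ← map_smul, h n, map_zero, LinearMap.zero_apply]

include hf in
theorem subsingleton_hom_iff {N : Type v} [AddCommGroup N] [Module A N] :
    Subsingleton (N →ₗ[A] H) ↔ Subsingleton N := by
  refine ⟨fun h => subsingleton_of_forall_eq 0 fun n => eq_zero_of_forall_hom hf n fun φ => ?_,
    fun h => subsingleton_of_forall_eq 0 fun φ => LinearMap.ext fun n => ?_⟩
  · rw [Subsingleton.elim φ 0, LinearMap.zero_apply]
  · rw [Subsingleton.elim n 0, map_zero, LinearMap.zero_apply]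

end Cogen

variable {A : Type u} [CommRing A] [IsLocalRing A] [IsNoetherianRing A] {ω : Dual.D A}
  (hω : Dual.IsDualizing A ω) (hn : Dual.IsNormalized A ω)
  (M : Type u) [AddCommGroup M] [Module A M] [Module.Finite A M]

include hω hn in
/-- Vanishing of local cohomology is vanishing of the dual `Ext`. -/
theorem annihilator_H (i : ℕ) :
    Module.annihilator A (_root_.LocCoh.H (maximalIdeal A) i M) =
      Module.annihilator A (E M ω (-(i : ℤ))) := by
  obtain ⟨H, _, _, f, hf⟩ := InjHull.Basic.exists_isInjectiveHull (R := A) (ResidueField A)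
  obtain ⟨e⟩ := LocalDuality.nonempty_H_equiv hω hn hf M i
  rw [e.annihilator_eq]
  exact annihilator_hom (N := E M ω (-(i : ℤ))) hf

include hω hn in
theorem subsingleton_H_iff (i : ℕ) :
    Subsingleton (_root_.LocCoh.H (maximalIdeal A) i M) ↔ Subsingleton (E M ω (-(i : ℤ))) := by
  rw [← Module.annihilator_eq_top_iff (R := A), annihilator_H hω hn M i, Module.annihilator_eq_top_iff]

include hω hn in
theorem finite_E (j : ℤ) : Module.Finite A (E M ω j) := Normal.finite_E hω M j

include hω hn in
theorem deg_eq (p : PrimeSpectrum A) :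
    ringKrullDim (A ⧸ p.1) = (((-deg hω p).toNat : ℕ) : WithBot ℕ∞) ∧ deg hω p ≤ 0 := by
  refine ⟨?_, Dimfun.deg_nonpos hω hn p⟩
  rw [Dimfun.ringKrullDim_quotient_eq_coheight, Dimfun.coheight_eq hω hn p]
  rfl

include hω hn in
/-- A localisation of `Ext` is zero iff local cohomology of the localisation is. -/
theorem Z_iff_forall (p : PrimeSpectrum A) (i : ℕ) :
    Z p (E M ω (-(i : ℤ))) ↔ ∀ j : ℕ, (j : WithBot ℕ∞) + ringKrullDim (A ⧸ p.1) = i →
      Subsingleton (_root_.LocCoh.H (maximalIdeal (B p)) j (LocalizedModule p.1.primeCompl M)) := by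
  obtain ⟨hd, hle⟩ := deg_eq hω hn p
  have := Normalized.finite_localized p M
  have hω' := Normalized.isDualizing_loc hω p
  have hn' := Normalized.isNormalized_loc hω p
  have key : ∀ j : ℕ, ((j : WithBot ℕ∞) + ringKrullDim (A ⧸ p.1) = i) ↔
      (j : ℤ) - deg hω p = i := fun j => by
    rw [hd]
    constructor
    · intro h
      have h' : j + (-deg hω p).toNat = i := by exact_mod_cast h
      omega
    · intro h
      have h' : j + (-deg hω p).toNat = i := by omega
      exact_mod_cast h'
  rw [Normalized.Z_E_iff hω]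
  constructor
  · intro h j hj
    rw [subsingleton_H_iff hω' hn']
    rwa [show (-(j : ℤ)) = -(i : ℤ) - deg hω p by have := (key j).mp hj; omega]
  · intro h
    by_cases hlt : (i : ℤ) + deg hω p < 0
    · exact Normal.subsingleton_E_pos hω' hn' _ _ (by omega)
    · have h1 := h ((i : ℤ) + deg hω p).toNat ((key _).mpr (by omega))
      rw [subsingleton_H_iff hω' hn'] at h1
      rwa [show -((((i : ℤ) + deg hω p).toNat : ℕ) : ℤ) = -(i : ℤ) - deg hω p by omega] at h1

include hω hn in
/-- `J` kills a power of `H^i` iff the shifted local cohomology vanishes outside `V(J)`. -/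
theorem le_radical_annihilator_iff (J : Ideal A) (i : ℕ) :
    J ≤ (Module.annihilator A (_root_.LocCoh.H (maximalIdeal A) i M)).radical ↔
      ∀ p : PrimeSpectrum A, ¬ J ≤ p.1 → ∀ j : ℕ, (j : WithBot ℕ∞) + ringKrullDim (A ⧸ p.1) = i →
        Subsingleton (_root_.LocCoh.H (maximalIdeal (B p)) j (LocalizedModule p.1.primeCompl M)) := by
  rw [annihilator_H hω hn M i]
  have := finite_E hω hn M (-(i : ℤ))
  have hsupp : ∀ p : PrimeSpectrum A, Z p (E M ω (-(i : ℤ))) ↔
      ¬ Module.annihilator A (E M ω (-(i : ℤ))) ≤ p.1 := fun p => by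
    rw [Dimfun.Z_iff_localized, ← Module.notMem_support_iff, Module.mem_support_iff_of_finite]
  simp only [← Z_iff_forall hω hn M, hsupp]
  refine ⟨fun h p hp hann => hp (h.trans ((p.2.radical_le_iff).mpr hann)), fun h a ha => ?_⟩
  rw [Ideal.radical_eq_sInf, Submodule.mem_sInf]
  rintro q ⟨hq, hqp⟩
  by_contra haq
  exact h ⟨q, hqp⟩ (fun hJ => haq (hJ ha)) hq

/-- A dualizing complex on a quotient of a Gorenstein local ring. -/
theorem exists_normalized (R : Type u) [CommRing R] [IsLocalRing R] [IsNoetherianRing R]
    (R' : Type u) [CommRing R'] [_root_.LocCoh.IsGorensteinLocalRing R'] (g : R' →+* R)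
    (hg : Function.Surjective g) :
    ∃ ω : Dual.D R, Dual.IsDualizing R ω ∧ Dual.IsNormalized R ω := by
  let := g.toAlgebra
  have : Module.Finite R' R := Module.Finite.of_surjective (Algebra.linearMap R' R) hg
  obtain ⟨ω, hω⟩ := Shriek.exists_isDualizing (B := R)
    (DualCx.Gorenstein.isDualizing_of_isGorensteinLocalRing (A := R'))
  obtain ⟨n, hn⟩ := Normalized.exists_isNormalized hω
  exact ⟨_, Normalized.isDualizing_shift hω n, hn⟩

theorem isFiniteLength_H_iff (R : Type u) [CommRing R] [IsLocalRing R] [IsNoetherianRing R]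
    (N : Type u) [AddCommGroup N] [Module R N] [Module.Finite R N] (i : ℕ) :
    IsFiniteLength R (_root_.LocCoh.H (maximalIdeal R) i N) ↔
      maximalIdeal R ≤ (Module.annihilator R (_root_.LocCoh.H (maximalIdeal R) i N)).radical := by
  let H := _root_.LocCoh.H (maximalIdeal R) i N
  have hart : IsArtinian R H :=
    _root_.Groth.Agent.LocCoh.isArtinian_H_maximalIdeal i (ModuleCat.of R N)
  constructor
  · intro h
    obtain ⟨hnoeth, -⟩ := isFiniteLength_iff_isNoetherian_isArtinian.mp h
    let F : ℕ →o (Submodule R H)ᵒᵈ :=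
      ⟨fun k => OrderDual.toDual (maximalIdeal R ^ k • ⊤),
        fun a b hab => Submodule.smul_mono_left (Ideal.pow_le_pow_right hab)⟩
    obtain ⟨k, hk⟩ := IsArtinian.monotone_stabilizes F
    have h1 : maximalIdeal R ^ k • (⊤ : Submodule R H) = ⊥ := by
      refine Submodule.eq_bot_of_le_smul_of_le_jacobson_bot (maximalIdeal R) _
        (IsNoetherian.noetherian _) ?_ (maximalIdeal_le_jacobson _)
      rw [← mul_smul, ← pow_succ']
      exact (OrderDual.toDual.injective (hk (k + 1) (Nat.le_succ k))).le
    intro a ha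
    refine ⟨k, Module.mem_annihilator.mpr fun x => ?_⟩
    have h2 := Submodule.smul_mem_smul (Ideal.pow_mem_pow ha k) (Submodule.mem_top (x := x) (R := R))
    rwa [h1, Submodule.mem_bot] at h2
  · intro h
    obtain ⟨k, hk⟩ := Ideal.exists_pow_le_of_le_radical_of_fg h (IsNoetherian.noetherian _)
    let J := maximalIdeal R ^ k
    have := _root_.Groth.Agent.LocCohSweep.HLVT.isArtinian_quot_pow (A := R) k
    let : Module (R ⧸ J) H := Module.IsTorsionBySet.module
      (fun n b => Module.mem_annihilator.mp (hk b.2) n : Module.IsTorsionBySet R H J)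
    have : IsScalarTower R (R ⧸ J) H := IsScalarTower.of_algebraMap_smul fun b n => rfl
    have : IsArtinian (R ⧸ J) H := isArtinian_of_tower R hart
    have h3 : IsNoetherian (R ⧸ J) H := IsSemiprimaryRing.isNoetherian_iff_isArtinian.mpr this
    have : Module.Finite R (R ⧸ J) := inferInstance
    have : Module.Finite R H := Module.Finite.trans (R ⧸ J) H
    exact isFiniteLength_iff_isNoetherian_isArtinian.mpr ⟨isNoetherian_of_isNoetherianRing_of_finite R H, hart⟩

end Groth.Agent.LocCohSweep.DualityLocus

namespace Groth.Agent.LocCohSweep.DualityLocus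

open CategoryTheory IsLocalRing DualCx
open Devissage (E)
open Dimfun (B Z deg)

variable {A : Type u} [CommRing A] [IsLocalRing A] [IsNoetherianRing A] {ω : Dual.D A}
  (hω : Dual.IsDualizing A ω) (hn : Dual.IsNormalized A ω)
  (M : Type u) [AddCommGroup M] [Module A M] [Module.Finite A M]

include hω hn in
/-- Finite length of `H^i` through the dual `Ext`. -/
theorem isFiniteLength_iff_Z (i : ℕ) :
    IsFiniteLength A (_root_.LocCoh.H (maximalIdeal A) i M) ↔
      ∀ p : PrimeSpectrum A, p.1 ≠ maximalIdeal A → Z p (E M ω (-(i : ℤ))) := by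
  rw [isFiniteLength_H_iff A M i, le_radical_annihilator_iff hω hn M]
  refine forall_congr' fun p => ?_
  rw [Z_iff_forall hω hn M p i]
  exact imp_congr_left (not_congr ⟨fun h => le_antisymm (le_maximalIdeal p.2.ne_top) h, fun h => h.ge⟩)

include hω hn in
/-- Generalised Cohen–Macaulay modules. -/
theorem forall_isFiniteLength_iff (n : ℕ) (hd : Module.supportDim A M = n) :
    (∀ i : ℕ, i < n → IsFiniteLength A (_root_.LocCoh.H (maximalIdeal A) i M)) ↔
      ((∀ p ∈ (Module.annihilator A M).minimalPrimes, ringKrullDim (A ⧸ p) = n) ∧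
        ∀ (p : Ideal A) [p.IsPrime], p ≠ maximalIdeal A → Module.annihilator A M ≤ p →
          _root_.LocCoh.IsCohenMacaulayModule (Localization.AtPrime p)
            (LocalizedModule p.primeCompl M)) := by
  have hM : Nontrivial M := (Module.supportDim_ne_bot_iff_nontrivial A M).mp (hd ▸ by simp)
  have hnt : ∀ p : PrimeSpectrum A, Module.annihilator A M ≤ p.1 →
      Nontrivial (LocalizedModule p.1.primeCompl M) := fun p hp => by
    rw [← Module.mem_support_iff, Module.mem_support_iff_of_finite]
    exact hp
  have hout : ∀ (p : PrimeSpectrum A) (j : ℤ), j < -(n : ℤ) → Z p (E M ω j) := fun p j hj => by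
    have := Normal.subsingleton_E hω hn n M hd.le j (Or.inl hj)
    exact Dimfun.Z_of_subsingleton p _
  have hmin : ∀ q : PrimeSpectrum A, q.1 ∈ (Module.annihilator A M).minimalPrimes →
      ¬ Z q (E M ω (deg hω q)) ∧ -(n : ℤ) ≤ deg hω q := fun q hq => by
    have h := LocalGlobal.not_Z_E_of_minimal hω q M
      (fun r hr hrq => PrimeSpectrum.ext (le_antisymm hrq (hq.2 ⟨r.2, hr⟩ hrq)))
      (fun h => by
        have := hnt q hq.1.2
        rw [Dimfun.Z_iff_localized] at h
        exact not_subsingleton _ h)
    exact ⟨h, le_of_not_gt fun hlt => h (hout q _ hlt)⟩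
  simp only [isFiniteLength_iff_Z hω hn M]
  constructor
  · intro h
    refine ⟨fun q hq => ?_, fun p hp hpm hann => ?_⟩
    · let q' : PrimeSpectrum A := ⟨q, hq.1.1⟩
      obtain ⟨hd', hle⟩ := deg_eq hω hn q'
      obtain ⟨hnZ, hge⟩ := hmin q' hq
      refine hd'.trans ?_
      suffices (-deg hω q').toNat = n by exact_mod_cast congrArg (Nat.cast : ℕ → WithBot ℕ∞) this
      by_contra hne
      have hqm : q = maximalIdeal A := by
        by_contra hqm
        have hlt : (-deg hω q').toNat < n := by omega
        have := h _ hlt q' hqm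
        rw [show -(((-deg hω q').toNat : ℕ) : ℤ) = deg hω q' by omega] at this
        exact hnZ this
      -- the support is the closed point
      have hsupp : ∀ p : PrimeSpectrum A, Module.annihilator A M ≤ p.1 → p.1 = maximalIdeal A :=
        fun p hp => le_antisymm (le_maximalIdeal p.2.ne_top) (hqm ▸ hq.2 ⟨p.2, hp⟩
          ((le_maximalIdeal p.2.ne_top).trans hqm.ge))
      have h0 : Module.supportDim A M ≤ 0 := by
        have : Subsingleton (Module.support A M) := ⟨fun a b => Subtype.ext (PrimeSpectrum.ext (by
          rw [hsupp a.1 ((Module.mem_support_iff_of_finite).mp a.2),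
            hsupp b.1 ((Module.mem_support_iff_of_finite).mp b.2)]))⟩
        exact Order.krullDim_nonpos_of_subsingleton
      rw [hd] at h0
      have : n = 0 := by
        have : n ≤ 0 := by exact_mod_cast h0
        omega
      have hz : deg hω q' = 0 := by omega
      omega
    · let p' : PrimeSpectrum A := ⟨p, hp⟩
      have := hnt p' hann
      refine ((Normalized.cm_iff hω p' M).mpr ⟨-(n : ℤ), fun j hj => ?_⟩).resolve_left
        (not_subsingleton _)
      rcases lt_or_gt_of_ne hj with hlt | hgt
      · exact hout p' j hlt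
      · by_cases hj0 : j ≤ 0
        · have := h (-j).toNat (by omega) p' hpm
          rwa [show -(((-j).toNat : ℕ) : ℤ) = j by omega] at this
        · exact Normalized.Z_E_of_deg hω p' M j (by have := Dimfun.deg_nonpos hω hn p'; omega)
  · rintro ⟨heq, hcm⟩ i hi p hpm
    by_cases hann : Module.annihilator A M ≤ p.1
    · have := p.2
      have := hnt p hann
      obtain ⟨j₀, hj₀⟩ := (Normalized.cm_iff hω p M).mp (Or.inr (hcm p.1 hpm hann))
      obtain ⟨q, hq, hqp⟩ := Ideal.exists_minimalPrimes_le (J := p.1) hann
      have hq1 := hq.1.1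
      let q' : PrimeSpectrum A := ⟨q, hq1⟩
      obtain ⟨hd', hle⟩ := deg_eq hω hn q'
      have hdq : deg hω q' = -(n : ℤ) := by
        have h1 := heq q hq
        replace h1 := hd'.symm.trans h1
        have h2 : (-deg hω q').toNat = n := by exact_mod_cast h1
        omega
      obtain ⟨hnZ, -⟩ := hmin q' hq
      have hnp : ¬ Z p (E M ω (-(n : ℤ))) := fun hz => hnZ (by
        rw [hdq]
        intro e
        obtain ⟨s, hs, he⟩ := hz e
        exact ⟨s, fun h => hs (hqp h), he⟩)
      exact hj₀ _ fun he => hnp (hj₀ _ fun he' => by omega)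
    · rw [Z_iff_forall hω hn M p i]
      intro j _
      have : Subsingleton (LocalizedModule p.1.primeCompl M) := by
        rw [← Module.notMem_support_iff, Module.mem_support_iff_of_finite]
        exact hann
      exact id (by
        have := Normalized.finite_localized p M
        rw [subsingleton_H_iff (Normalized.isDualizing_loc hω p) (Normalized.isNormalized_loc hω p)]
        exact Devissage.subsingleton_of_subsingleton _)

end Groth.Agent.LocCohSweep.DualityLocus
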