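import Groth.Agent.DualCx.Normalized
import Groth.Agent.DualCx.Polynomial
import Groth.Agent.Depth.CM

/-!
# The dual `Ext` module of a Cohen–Macaulay module
-/

set_option autoImplicit false

universe u v

open CategoryTheory IsLocalRing
open scoped Pointwise

attribute [local instance] HasDerivedCategory.standard

namespace Groth.Agent.LocCohSweep.CMCanonical

open DualCx
open Devissage (E pre)
open Dimfun (B Z deg)

variable {A : Type u} [CommRing A] [IsLocalRing A] [IsNoetherianRing A] {ω : Dual.D A}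
  (hω : Dual.IsDualizing A ω) (hn : Dual.IsNormalized A ω)
  {M : Type u} [AddCommGroup M] [Module A M] [Module.Finite A M]
  (hCM : _root_.LocCoh.IsCohenMacaulayModule A M) {n : ℕ} (hd : Module.supportDim A M = n)

include hω hn hCM hd in
/-- Only the degree `-dim M` survives. -/
theorem subsingleton_E_of_ne (j : ℤ) (hj : j ≠ -(n : ℤ)) : Subsingleton (E M ω j) := by
  have := Depth.nontrivial_of_isCohenMacaulayModule hCM
  by_cases hout : j < -(n : ℤ) ∨ 0 < j
  · exact Normal.subsingleton_E hω hn n M hd.le j hout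
  · push Not at hout
    have hdep : _root_.LocCoh.depth A M = (n : ℕ∞) := by
      have h : ((_root_.LocCoh.depth A M : ℕ∞) : WithBot ℕ∞) = ((n : ℕ∞) : WithBot ℕ∞) :=
        hCM.symm.trans hd
      exact_mod_cast h
    have h := (Normal.depth_spec hω hn n M hdep).1 (-j).toNat (by omega)
    rwa [show -(((-j).toNat : ℕ) : ℤ) = j by omega] at h

include hω hn hCM hd in
/-- A regular element acts injectively, and the quotient embeds in the dual of the quotient. -/
theorem regular_step {x : A} (hx : x ∈ maximalIdeal A) (hreg : IsSMulRegular M x) :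
    ∃ m : ℕ, n = m + 1 ∧ Module.supportDim A (QuotSMulTop x M) = m ∧
      _root_.LocCoh.IsCohenMacaulayModule A (QuotSMulTop x M) ∧
      (∀ e : E M ω (-(n : ℤ)), x • e = 0 → e = 0) ∧
      ∃ c : E M ω (-(n : ℤ)) →ₗ[A] E (QuotSMulTop x M) ω (-(m : ℤ)),
        ∀ e, c e = 0 ↔ ∃ e', x • e' = e := by
  have hcm := (Depth.isCohenMacaulayModule_quotSMulTop_iff hx hreg).mpr hCM
  have hsd := Module.supportDim_quotSMulTop_succ_eq_supportDim hreg hx
  rw [hd] at hsd
  have hnt := Depth.nontrivial_of_isCohenMacaulayModule hcm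
  obtain ⟨m, hm⟩ : ∃ m : ℕ, Module.supportDim A (QuotSMulTop x M) = m :=
    ⟨_, hcm.trans (congrArg (fun e : ℕ∞ => (e : WithBot ℕ∞))
      (ENat.natCast_toNat (Depth.depth_lt_top (M := QuotSMulTop x M)).ne).symm)⟩
  rw [hm] at hsd
  have hnm : n = m + 1 := by
    have : m + 1 = n := by exact_mod_cast hsd
    omega
  have hzero : Subsingleton (E (QuotSMulTop x M) ω (-(n : ℤ))) :=
    subsingleton_E_of_ne hω hn hcm hm _ (by omega)
  have hexact : Function.Exact (x • (LinearMap.id : M →ₗ[A] M)) (x • (⊤ : Submodule A M)).mkQ :=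
    fun m => by simp [Submodule.mem_smul_pointwise_iff_exists]
  have hinj : Function.Injective (x • (LinearMap.id : M →ₗ[A] M)) := hreg
  have hsur := Submodule.mkQ_surjective (x • (⊤ : Submodule A M))
  have hmul : ∀ e : E M ω (-(n : ℤ)), pre (x • (LinearMap.id : M →ₗ[A] M)) ω (-(n : ℤ)) e = x • e :=
    fun e => by rw [Devissage.pre_smul, Devissage.pre_id]
  refine ⟨m, hnm, hm, hcm, fun e he => ?_,
    DualCx.Hom.cδ A (Devissage.sc_shortExact hinj hsur hexact).singleTriangle ω (-(n : ℤ)) (-(m : ℤ))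
      (by omega), fun e => ?_⟩
  · obtain ⟨e', rfl⟩ := (Devissage.exact_mid hinj hsur hexact (-(n : ℤ)) e).mp ((hmul e).trans he)
    rw [Subsingleton.elim e' 0, map_zero]
  · refine ((DualCx.Hom.exact_pre_cδ A ω (Devissage.sc_shortExact hinj hsur hexact).singleTriangle_distinguished
      (-(n : ℤ)) (-(m : ℤ)) (by omega)) e).trans ⟨fun ⟨e', he'⟩ => ⟨e', (hmul e').symm.trans he'⟩,
        fun ⟨e', he'⟩ => ⟨e', (hmul e').trans he'⟩⟩

include hω hn hCM hd in
/-- Associated primes of the dual module have full dimension. -/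
theorem dim_associatedPrime {q : Ideal A} (hq : q.IsPrime) (e : E M ω (-(n : ℤ)))
    (he : ∀ a : A, a ∈ q ↔ a • e = 0) : ringKrullDim (A ⧸ q) = n := by
  have hann : Module.annihilator A M ≤ q := fun a ha => by
    rw [he, ← Devissage.pre_id (K := ω) _ e, ← Devissage.pre_smul,
      show a • (LinearMap.id : M →ₗ[A] M) = 0 from LinearMap.ext fun x => Module.mem_annihilator.mp ha x]
    rw [← zero_smul A (0 : M →ₗ[A] M), Devissage.pre_smul, zero_smul]
  obtain ⟨P, hP, hqP⟩ : ∃ P ∈ associatedPrimes A M, q ≤ P := by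
    by_contra hno
    push Not at hno
    obtain ⟨x, hxq, hx⟩ := Depth.exists_isSMulRegular_of_forall_not_le (I := q) hno
    obtain ⟨-, -, -, -, hinj, -⟩ := regular_step hω hn hCM hd (le_maximalIdeal hq.ne_top hxq) hx
    have h0 : e = 0 := hinj e ((he x).mp hxq)
    exact hq.ne_top ((Ideal.eq_top_iff_one _).mpr ((he 1).mpr (by rw [h0, smul_zero])))
  have hPdim := (Depth.ringKrullDim_quotient_associatedPrime hCM hP).trans hd
  refine le_antisymm ?_ (hPdim ▸ ringKrullDim_le_of_surjective (Ideal.Quotient.factor hqP)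
    (Ideal.Quotient.factor_surjective _))
  rw [← hd, Module.supportDim_eq_ringKrullDim_quotient_annihilator]
  exact ringKrullDim_le_of_surjective (Ideal.Quotient.factor hann) (Ideal.Quotient.factor_surjective _)

include hω hn in
/-- The dual module of a Cohen–Macaulay quotient domain is an ideal, unmixed of height one unless trivial. -/
theorem exists_ideal (p : Ideal A) [p.IsPrime] (hcm : _root_.LocCoh.IsCohenMacaulayModule A (A ⧸ p))
    (hd : ringKrullDim (A ⧸ p) = n) :
    ∃ ι : E (A ⧸ p) ω (-(n : ℤ)) →ₗ[A] (A ⧸ p), Function.Injective ι ∧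
      ∀ (q : Ideal A), q.IsPrime → p ≤ q → ∀ y : A ⧸ p,
        (∀ c : A, c ∈ q ↔ ∃ t, ι t = c • y) → ringKrullDim (A ⧸ q) + 1 = (n : WithBot ℕ∞) := by
  classical
  have hd' : Module.supportDim A (A ⧸ p) = n := (Module.supportDim_quotient_eq_ringKrullDim p).trans hd
  let b : PrimeSpectrum A := ⟨p, inferInstance⟩
  have hdeg : deg hω b = -(n : ℤ) := by
    have h0 := Dimfun.deg_nonpos hω hn b
    have h1 : ringKrullDim (A ⧸ p) = (Order.coheight b : WithBot ℕ∞) :=
      Dimfun.ringKrullDim_quotient_eq_coheight b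
    rw [hd, Dimfun.coheight_eq hω hn b] at h1
    have : n = (-deg hω b).toNat := by exact_mod_cast h1
    omega
  obtain ⟨x, hgen', htor'⟩ : ∃ x : E (A ⧸ p) ω (-(n : ℤ)),
      (∀ e, ∃ s a : A, s ∉ p ∧ s • e = a • x) ∧
        ∀ a : A, (∃ s : A, s ∉ p ∧ s • (a • x) = 0) → a ∈ p := by
    have h := Polynomial.exists_gen hω b
    rw [hdeg] at h
    exact h
  have htf : ∀ a : A, a ∉ p → ∀ z : E (A ⧸ p) ω (-(n : ℤ)), a • z = 0 → z = 0 := fun a ha z hz => by
    by_cases hm : a ∈ maximalIdeal A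
    · obtain ⟨-, -, -, -, hinj, -⟩ := regular_step hω hn hcm hd' hm (fun r s hrs => by
        obtain ⟨r, rfl⟩ := Ideal.Quotient.mk_surjective r
        obtain ⟨s, rfl⟩ := Ideal.Quotient.mk_surjective s
        rw [Ideal.Quotient.eq]
        have hrs' : Ideal.Quotient.mk p (a * r) = Ideal.Quotient.mk p (a * s) := hrs
        rw [Ideal.Quotient.eq, ← mul_sub] at hrs'
        exact (Ideal.IsPrime.mem_or_mem inferInstance hrs').resolve_left ha)
      exact hinj z hz
    · obtain ⟨v, rfl⟩ := IsLocalRing.notMem_maximalIdeal.mp hm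
      exact (smul_eq_zero_iff_eq v).mp hz
  have hkill : ∀ a ∈ p, ∀ z : E (A ⧸ p) ω (-(n : ℤ)), a • z = 0 := fun a ha z => by
    rw [← Devissage.pre_id (K := ω) _ z, ← Devissage.pre_smul,
      show a • (LinearMap.id : (A ⧸ p) →ₗ[A] A ⧸ p) = 0 from LinearMap.ext fun w => by
        obtain ⟨w, rfl⟩ := Ideal.Quotient.mk_surjective w
        exact Ideal.Quotient.eq_zero_iff_mem.mpr (p.mul_mem_right w ha),
      ← zero_smul A (0 : (A ⧸ p) →ₗ[A] A ⧸ p), Devissage.pre_smul, zero_smul]
  let L : (A ⧸ p) →ₗ[A] E (A ⧸ p) ω (-(n : ℤ)) :=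
    Submodule.liftQ p (LinearMap.toSpanSingleton A _ x) fun a ha => hkill a ha x
  have hL : Function.Injective L := (injective_iff_map_eq_zero _).mpr fun c hc => by
    obtain ⟨c, rfl⟩ := Ideal.Quotient.mk_surjective c
    refine Ideal.Quotient.eq_zero_iff_mem.mpr (htor' c ⟨1, fun h => ‹p.IsPrime›.ne_top ((Ideal.eq_top_iff_one _).mpr h), ?_⟩)
    rw [one_smul]
    exact hc
  have : Module.Finite A (E (A ⧸ p) ω (-(n : ℤ))) := Normal.finite_E hω (A ⧸ p) _
  obtain ⟨T, hT⟩ := Module.Finite.fg_top (R := A) (M := E (A ⧸ p) ω (-(n : ℤ)))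
  choose s a hs hsa using hgen'
  let S := ∏ y ∈ T, s y
  have hS : S ∉ p := fun h => by
    obtain ⟨y, -, hy⟩ := Ideal.IsPrime.prod_mem_iff.mp h
    exact hs y hy
  have hmem : ∀ y, S • y ∈ LinearMap.range L := fun y => by
    have hy : y ∈ Submodule.span A (T : Set (E (A ⧸ p) ω (-(n : ℤ)))) := hT ▸ Submodule.mem_top
    induction hy using Submodule.span_induction with
    | mem y hy =>
      obtain ⟨c, hc⟩ : s y ∣ S := Finset.dvd_prod_of_mem _ hy
      refine ⟨Ideal.Quotient.mk p (c * a y), ?_⟩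
      change (c * a y) • x = S • y
      rw [hc, mul_smul, ← hsa, smul_smul, mul_comm]
    | zero => rw [smul_zero]; exact Submodule.zero_mem _
    | add y z _ _ hy hz => rw [smul_add]; exact Submodule.add_mem _ hy hz
    | smul c y _ hy => rw [smul_comm]; exact Submodule.smul_mem _ c hy
  let ι : E (A ⧸ p) ω (-(n : ℤ)) →ₗ[A] (A ⧸ p) := (LinearEquiv.ofInjective L hL).symm.toLinearMap.comp
    ((S • LinearMap.id : E (A ⧸ p) ω (-(n : ℤ)) →ₗ[A] _).codRestrict (LinearMap.range L) hmem)
  have hι : Function.Injective ι := by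
    rw [LinearMap.coe_comp]
    exact (LinearEquiv.injective _).comp ((injective_iff_map_eq_zero _).mpr fun y hy =>
      htf S hS y (congrArg Subtype.val hy))
  refine ⟨ι, hι, fun q hq hpq y hy => ?_⟩
  -- a nonzero element of the image inside `q`
  obtain ⟨w, hw⟩ := Ideal.Quotient.mk_surjective (ι x)
  have hwp : w ∉ p := fun h => by
    have h0 : ι x = ι 0 := by rw [← hw, map_zero, Ideal.Quotient.eq_zero_iff_mem.mpr h]
    have hx0 := hι h0
    exact ‹p.IsPrime›.ne_top ((Ideal.eq_top_iff_one _).mpr (htor' 1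
      ⟨1, fun h => ‹p.IsPrime›.ne_top ((Ideal.eq_top_iff_one _).mpr h), by simp [hx0]⟩))
  obtain ⟨y₀, hy₀⟩ := Ideal.Quotient.mk_surjective y
  have hcy : ∀ c : A, c • y = Ideal.Quotient.mk p (c * y₀) := fun c => by rw [← hy₀]; rfl
  have hwq : w ∈ q := (hy w).mpr ⟨y₀ • x, by
    rw [map_smul, hcy, ← hw, mul_comm]; rfl⟩
  have hwm : w ∈ maximalIdeal A := le_maximalIdeal hq.ne_top hwq
  have hreg : IsSMulRegular (A ⧸ p) w := fun r s hrs => by
    obtain ⟨r, rfl⟩ := Ideal.Quotient.mk_surjective r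
    obtain ⟨s, rfl⟩ := Ideal.Quotient.mk_surjective s
    rw [Ideal.Quotient.eq]
    have hrs' : Ideal.Quotient.mk p (w * r) = Ideal.Quotient.mk p (w * s) := hrs
    rw [Ideal.Quotient.eq, ← mul_sub] at hrs'
    exact (Ideal.IsPrime.mem_or_mem inferInstance hrs').resolve_left hwp
  obtain ⟨m, hnm, hm, hcm', -, c₁, hc₁⟩ := regular_step hω hn hcm hd' hwm hreg
  obtain ⟨t, ht⟩ := (hy w).mp hwq
  have key : ringKrullDim (A ⧸ q) = m := dim_associatedPrime hω hn hcm' hm hq (c₁ t) fun c => by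
    rw [← map_smul, hc₁, hy]
    constructor
    · rintro ⟨t', ht'⟩
      exact ⟨t', hι (by rw [map_smul, map_smul, ht, ht', smul_comm])⟩
    · rintro ⟨t', ht'⟩
      refine ⟨t', hreg ?_⟩
      change w • ι t' = w • (c • y)
      rw [← map_smul, ht', map_smul, ht, smul_comm]
  rw [key, hnm]
  push_cast
  rfl

end Groth.Agent.LocCohSweep.CMCanonical
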