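import Groth.Agent.GrModLib.Alpha
import Groth.Agent.LocCoh.IdealTransform
import Groth.Agent.LocCoh.TransformExt

/-!
# Sections of `M(n)~` inside the ideal transform of `M` at the irrelevant ideal
-/

set_option autoImplicit false

universe u

open DirectSum CategoryTheory TopologicalSpace Opposite

noncomputable section

namespace Groth.Agent.LocCohSweep.GradedTransform

open Groth.Agent.GrModLib
open Groth.Agent.LocCoh.IdealTransform

section Extend

variable {R : Type u} [CommRing R] [IsNoetherianRing R] {I : Ideal R} {M : Type u} [AddCommGroup M]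
  [Module R M] {r : ℕ} {f : Fin r → R}

theorem eq_zero_of_forall_pow (hI : I ≤ (Ideal.span (Set.range f)).radical) (y : _root_.LocCoh.DT I M)
    (h : ∀ k, ∃ N : ℕ, f k ^ N • y = 0) : y = 0 := by
  let J := (Submodule.span R {y}).annihilator
  have hle : I ≤ J.radical := hI.trans (Ideal.radical_le_radical_iff.mpr (Ideal.span_le.mpr (by
    rintro _ ⟨k, rfl⟩
    obtain ⟨N, hN⟩ := h k
    exact ⟨N, (Submodule.mem_annihilator_span_singleton _ _).mpr hN⟩)))
  obtain ⟨K, hK⟩ := Ideal.exists_pow_le_of_le_radical_of_fg hle (IsNoetherian.noetherian _)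
  have hmem : y ∈ DRing.torsionSub I (_root_.LocCoh.DT I M) :=
    ⟨K, fun a ha => (Submodule.mem_annihilator_span_singleton _ _).mp (hK ha)⟩
  rw [torsionSub_DT] at hmem
  exact (Submodule.mem_bot R).mp hmem

/-- Compatible fractions extend to the ideal transform. -/
theorem exists_extend (hf : ∀ k, f k ∈ I) (hI : I ≤ (Ideal.span (Set.range f)).radical) (E : ℕ)
    (c : Fin r → M) (hc : ∀ k l, f l ^ E • c k = f k ^ E • c l) :
    ∃ x : _root_.LocCoh.DT I M, ∀ k, f k ^ E • x = _root_.LocCoh.toDT I M (c k) := by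
  let g : Fin r → R := fun k => f k ^ E
  let d : Fin r → _root_.LocCoh.DT I M := fun k => _root_.LocCoh.toDT I M (c k)
  let π := Fintype.linearCombination R g
  let ψ := Fintype.linearCombination R d
  have hd : ∀ k l, g l • d k = g k • d l := fun k l => by
    simp only [g, d, ← map_smul, hc k l]
  have hker : LinearMap.ker π ≤ LinearMap.ker ψ := by
    intro a ha
    rw [LinearMap.mem_ker] at ha ⊢
    refine eq_zero_of_forall_pow hI _ fun l => ⟨E, ?_⟩
    rw [Fintype.linearCombination_apply] at ha ⊢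
    rw [Finset.smul_sum]
    calc ∑ k, f l ^ E • a k • d k = ∑ k, (a k • g k) • d l := by
          refine Finset.sum_congr rfl fun k _ => ?_
          rw [smul_comm, show f l ^ E • d k = g k • d l from hd k l, smul_assoc]
      _ = 0 := by rw [← Finset.sum_smul, ha, zero_smul]
  let J : Ideal R := Ideal.span (Set.range g)
  have hJ : LinearMap.range π = J := Fintype.range_linearCombination R g
  let φ : J →ₗ[R] _root_.LocCoh.DT I M := (LinearMap.ker π).liftQ ψ hker ∘ₗ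
    π.quotKerEquivRange.symm.toLinearMap ∘ₗ (LinearEquiv.ofEq _ _ hJ.symm).toLinearMap
  have hφ : ∀ k, φ ⟨g k, Ideal.subset_span ⟨k, rfl⟩⟩ = d k := fun k => by
    have he : π (Pi.single k 1) = g k := by
      simp [π, Fintype.linearCombination_apply_single]
    show (LinearMap.ker π).liftQ ψ hker (π.quotKerEquivRange.symm (LinearEquiv.ofEq _ _ hJ.symm
      ⟨g k, Ideal.subset_span ⟨k, rfl⟩⟩)) = d k
    rw [show LinearEquiv.ofEq _ _ hJ.symm ⟨g k, Ideal.subset_span ⟨k, rfl⟩⟩ =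
      (⟨π (Pi.single k 1), LinearMap.mem_range_self _ _⟩ : LinearMap.range π) from Subtype.ext he.symm,
      LinearMap.quotKerEquivRange_symm_apply_image]
    simp [ψ, Fintype.linearCombination_apply_single]
  obtain ⟨p, hp⟩ := Ideal.exists_pow_le_of_le_radical_of_fg (I := I)
    (J := J) (hI.trans (Ideal.radical_le_radical_iff.mpr (Ideal.span_le.mpr (by
      rintro _ ⟨k, rfl⟩
      exact ⟨E, Ideal.subset_span ⟨k, rfl⟩⟩)))) (IsNoetherian.noetherian _)
  let φ' : ↥(I ^ p) →ₗ[R] _root_.LocCoh.DT I M := φ ∘ₗ Submodule.inclusion hp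
  obtain ⟨x, hx⟩ := bijective_toDT_DT.2 (ιD I (ModuleCat.of R (_root_.LocCoh.DT I M)) p φ')
  refine ⟨x, fun k => sub_eq_zero.mp (eq_zero_of_forall_pow hI _ fun l => ⟨p, ?_⟩)⟩
  have hlp : f l ^ p ∈ I ^ p := Ideal.pow_mem_pow (hf l) p
  have h1 : f l ^ p • x = φ' ⟨f l ^ p, hlp⟩ := bijective_toDT_DT.1 (by
    rw [map_smul, hx, smul_ιD φ' hlp])
  rw [smul_sub, smul_comm, h1]
  show g k • φ (Submodule.inclusion hp ⟨f l ^ p, hlp⟩) - f l ^ p • d k = 0
  rw [← hφ k, ← map_smul φ, ← map_smul φ, ← map_sub φ]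
  have h2 : g k • (Submodule.inclusion hp ⟨f l ^ p, hlp⟩ : J) -
      f l ^ p • (⟨g k, Ideal.subset_span ⟨k, rfl⟩⟩ : J) = 0 := Subtype.ext (by
    simp [mul_comm])
  rw [h2, map_zero]

end Extend

variable {R σ : Type u} [CommRing R] [IsNoetherianRing R] [SetLike σ R] [AddSubgroupClass σ R]
  {𝒜 : ℕ → σ} [GradedRing 𝒜] {M τ : Type u} [AddCommGroup M] [Module R M] [SetLike τ M]
  [AddSubgroupClass τ M] {ℳ : ℕ → τ} [SetLike.GradedSMul 𝒜 ℳ] [DirectSum.Decomposition ℳ]
  {r : ℕ} (f : Fin r → R) (d : Fin r → ℕ)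

variable (𝒜) in
/-- The irrelevant ideal. -/
abbrev irr : Ideal R := (HomogeneousIdeal.irrelevant 𝒜).toIdeal

/-- global sections in degree `n` -/
abbrev G (n : ℤ) : Type u := GrMod.sect 𝒜 ℳ n (op (⊤ : Opens (ProjectiveSpectrum.top 𝒜)))

instance (n : ℤ) : AddCommGroup (G (𝒜 := 𝒜) (ℳ := ℳ) n) :=
  inferInstanceAs (AddCommGroup (GrMod.sect 𝒜 ℳ n (op ⊤)))

/-- `c / f_k ^ e` represents `s` on `D₊(f_k)` -/
def Rep {n : ℤ} (s : G (𝒜 := 𝒜) (ℳ := ℳ) n) (k : Fin r) (e : ℕ) (c : M) : Prop :=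
  (∃ i : ℕ, c ∈ ℳ i ∧ ((i : ℤ) = e * d k + n ∨ c = 0)) ∧
    ∀ (x : ProjectiveSpectrum 𝒜) (hx : f k ∉ x.asHomogeneousIdeal),
      valAt s x trivial = mk x c (f k ^ e) (pow_nin hx e)

/-- the point `x` of the transform corresponds to `s` -/
def Spec' {n : ℤ} (s : G (𝒜 := 𝒜) (ℳ := ℳ) n) (x : _root_.LocCoh.DT (irr 𝒜) M) : Prop :=
  ∀ k e c, Rep f d s k e c → ∃ N : ℕ, f k ^ N • (f k ^ e • x - _root_.LocCoh.toDT (irr 𝒜) M c) = 0

variable (hd : ∀ k, 0 < d k) (hf : ∀ k, f k ∈ 𝒜 (d k))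
  (hirr : ∀ (i : ℕ) (a : R), 0 < i → a ∈ 𝒜 i → a ∈ Ideal.span (Set.range f))

include hd hf in
theorem mem_irr (k : Fin r) : f k ∈ irr 𝒜 := HomogeneousIdeal.mem_irrelevant_of_mem 𝒜 (hd k) (hf k)

include hirr in
omit [IsNoetherianRing R] in
theorem irr_le : irr 𝒜 ≤ (Ideal.span (Set.range f)).radical := by
  classical
  intro a ha
  refine Ideal.le_radical ?_
  rw [← DirectSum.sum_support_decompose 𝒜 a]
  refine sum_mem fun j _ => ?_
  by_cases hj : j = 0
  · subst hj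
    have h1 := (HomogeneousIdeal.mem_irrelevant_iff 𝒜 a).mp ha
    rw [GradedRing.proj_apply] at h1
    rw [h1]
    exact zero_mem _
  · exact hirr j _ (Nat.pos_of_ne_zero hj) (DirectSum.decompose 𝒜 a j).2

include hf in
omit [IsNoetherianRing R] in
theorem rep_pow {n : ℤ} {s : G (𝒜 := 𝒜) (ℳ := ℳ) n} {k : Fin r} {e : ℕ} {c : M} (h : Rep f d s k e c)
    (N : ℕ) : Rep f d s k (e + N) (f k ^ N • c) := by
  obtain ⟨⟨i, hi, hdeg⟩, hv⟩ := h
  refine ⟨⟨N * d k + i, pow_smul_mem hf hi N, hdeg.imp (fun h => ?_) fun h => by rw [h, smul_zero]⟩,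
    fun x hx => (hv x hx).trans (mk_eq_mk_iff.mpr ⟨1, GrMod.one_nin x, ?_⟩)⟩
  · push_cast
    rw [h]
    ring
  · rw [one_smul, sub_eq_zero, smul_smul, pow_add]

include hf in
omit [IsNoetherianRing R] in
theorem exists_rep (hd : ∀ k, 0 < d k) {n : ℤ} (s : G (𝒜 := 𝒜) (ℳ := ℳ) n) (k : Fin r) :
    ∃ e c, Rep f d s k e c := by
  obtain ⟨e, i, m, hm, hi, hv⟩ := exists_frac (hf k) (hd k) n (U := ⊤) (fun _ _ => trivial) s
  exact ⟨e, m, ⟨i, hm, Or.inl hi⟩, hv⟩

include hd hf in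
omit [IsNoetherianRing R] in
/-- two representatives agree -/
theorem rep_eq {n : ℤ} {s : G (𝒜 := 𝒜) (ℳ := ℳ) n} {k : Fin r} {e e' : ℕ} {c c' : M}
    (h : Rep f d s k e c) (h' : Rep f d s k e' c') :
    ∃ N : ℕ, f k ^ N • (f k ^ e' • c - f k ^ e • c') = 0 := by
  obtain ⟨⟨i, hi, hdeg⟩, hv⟩ := h
  obtain ⟨⟨i', hi', hdeg'⟩, hv'⟩ := h'
  have hhom : ∃ D : ℕ, f k ^ e' • c - f k ^ e • c' ∈ ℳ D := by
    rcases hdeg with hdeg | hc
    · rcases hdeg' with hdeg' | hc'
      · refine ⟨e' * d k + i, sub_mem (pow_smul_mem hf hi e') ?_⟩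
        have h1 := pow_smul_mem hf (k := k) hi' e
        have h2 : e * d k + i' = e' * d k + i := by
          have : ((e * d k + i' : ℕ) : ℤ) = (e' * d k + i : ℕ) := by push_cast; rw [hdeg, hdeg']; ring
          exact_mod_cast this
        rwa [h2] at h1
      · exact ⟨_, by rw [hc', smul_zero, sub_zero]; exact pow_smul_mem hf hi e'⟩
    · exact ⟨_, by rw [hc, smul_zero, zero_sub]; exact neg_mem (pow_smul_mem hf hi' e)⟩
  obtain ⟨D, hD⟩ := hhom
  exact exists_pow_smul_eq_zero hD (hf k) (hd k) fun x hx =>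
    mk_eq_mk_iff.mp ((hv x hx).symm.trans (hv' x hx))

include hd hf in
omit [IsNoetherianRing R] in
theorem exists_common {n : ℤ} (s : G (𝒜 := 𝒜) (ℳ := ℳ) n) :
    ∃ (E : ℕ) (c : Fin r → M), ∀ k, Rep f d s k E (c k) := by
  choose e c hc using exists_rep f d hf hd s
  refine ⟨Finset.univ.sup e, fun k => f k ^ (Finset.univ.sup e - e k) • c k, fun k => ?_⟩
  have := rep_pow f d hf (hc k) (Finset.univ.sup e - e k)
  rwa [Nat.add_sub_cancel' (Finset.le_sup (Finset.mem_univ k))] at this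

include hd hf in
omit [IsNoetherianRing R] in
/-- representatives on two basic opens are compatible -/
theorem rep_compat {n : ℤ} {s : G (𝒜 := 𝒜) (ℳ := ℳ) n} {k l : Fin r} {E : ℕ} {c c' : M}
    (h : Rep f d s k E c) (h' : Rep f d s l E c') :
    ∃ N : ℕ, (f k * f l) ^ N • (f l ^ E • c - f k ^ E • c') = 0 := by
  obtain ⟨⟨i, hi, hdeg⟩, hv⟩ := h
  obtain ⟨⟨i', hi', hdeg'⟩, hv'⟩ := h'
  have hhom : ∃ D : ℕ, f l ^ E • c - f k ^ E • c' ∈ ℳ D := by
    rcases hdeg with hdeg | hc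
    · rcases hdeg' with hdeg' | hc'
      · refine ⟨E * d l + i, sub_mem (pow_smul_mem hf hi E) ?_⟩
        have h1 := pow_smul_mem hf (k := k) hi' E
        have h2 : E * d k + i' = E * d l + i := by
          have : ((E * d k + i' : ℕ) : ℤ) = (E * d l + i : ℕ) := by push_cast; rw [hdeg, hdeg']; ring
          exact_mod_cast this
        rwa [h2] at h1
      · exact ⟨_, by rw [hc', smul_zero, sub_zero]; exact pow_smul_mem hf hi E⟩
    · exact ⟨_, by rw [hc, smul_zero, zero_sub]; exact neg_mem (pow_smul_mem hf hi' E)⟩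
  obtain ⟨D, hD⟩ := hhom
  refine exists_pow_smul_eq_zero hD (SetLike.mul_mem_graded (hf k) (hf l)) (by have := hd k; omega)
    fun x hx => ?_
  have hxk : f k ∉ x.asHomogeneousIdeal := fun h => hx (Ideal.mul_mem_right _ _ h)
  have hxl : f l ∉ x.asHomogeneousIdeal := fun h => hx (Ideal.mul_mem_left _ _ h)
  exact mk_eq_mk_iff.mp ((hv x hxk).symm.trans (hv' x hxl))

include hd hf hirr in
theorem exists_spec {n : ℤ} (s : G (𝒜 := 𝒜) (ℳ := ℳ) n) : ∃ x, Spec' f d s x := by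
  classical
  obtain ⟨E, c, hc⟩ := exists_common f d hd hf s
  choose N hN using fun k l => rep_compat f d hd hf (hc k) (hc l)
  let Q := Finset.univ.sup fun kl : Fin r × Fin r => N kl.1 kl.2
  obtain ⟨x, hx⟩ := exists_extend (mem_irr f d hd hf) (irr_le f hirr) (E + Q) (fun k => f k ^ Q • c k)
    fun k l => by
      have h1 : (f k * f l) ^ Q • (f l ^ E • c k - f k ^ E • c l) = 0 := by
        rw [show Q = Q - N k l + N k l from (Nat.sub_add_cancel (Finset.le_sup
          (f := fun kl : Fin r × Fin r => N kl.1 kl.2) (Finset.mem_univ (k, l)))).symm, pow_add, mul_smul]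
        show _ • (f k * f l) ^ N k l • _ = (0 : M)
        rw [hN, smul_zero]
      rw [smul_sub, smul_smul, smul_smul, sub_eq_zero] at h1
      rw [smul_smul, smul_smul]
      convert h1 using 2 <;> ring
  refine ⟨x, fun k e c' hrep => ?_⟩
  obtain ⟨N', hN'⟩ := rep_eq f d hd hf (hc k) hrep
  refine ⟨N' + (E + Q), ?_⟩
  have h2 := congrArg (_root_.LocCoh.toDT (irr 𝒜) M) hN'
  rw [map_smul, map_sub, map_smul, map_smul, map_zero] at h2
  have h3 := hx k
  rw [map_smul] at h3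
  calc f k ^ (N' + (E + Q)) • (f k ^ e • x - _root_.LocCoh.toDT (irr 𝒜) M c')
      = f k ^ Q • f k ^ N' • (f k ^ e • _root_.LocCoh.toDT (irr 𝒜) M (c k) -
          f k ^ E • _root_.LocCoh.toDT (irr 𝒜) M c') := by
        simp only [smul_sub, smul_smul]
        rw [show f k ^ (N' + (E + Q)) * f k ^ e = f k ^ (N' + e) * f k ^ (E + Q) by ring,
          mul_smul, h3, smul_smul]
        congr 2 <;> ring
    _ = 0 := by rw [h2, smul_zero]

include hd hf hirr in
theorem spec_unique {n : ℤ} {s : G (𝒜 := 𝒜) (ℳ := ℳ) n} {x x' : _root_.LocCoh.DT (irr 𝒜) M}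
    (h : Spec' f d s x) (h' : Spec' f d s x') : x = x' := by
  refine sub_eq_zero.mp (eq_zero_of_forall_pow (irr_le f hirr) _ fun k => ?_)
  obtain ⟨e, c, hc⟩ := exists_rep f d hf hd s k
  obtain ⟨N, hN⟩ := h k e c hc
  obtain ⟨N', hN'⟩ := h' k e c hc
  refine ⟨N + N' + e, ?_⟩
  have h1 : f k ^ (N + N') • (f k ^ e • x - _root_.LocCoh.toDT (irr 𝒜) M c) = 0 := by
    rw [add_comm N N', pow_add, mul_smul, hN, smul_zero]
  have h2 : f k ^ (N + N') • (f k ^ e • x' - _root_.LocCoh.toDT (irr 𝒜) M c) = 0 := by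
    rw [pow_add, mul_smul, hN', smul_zero]
  rw [← sub_eq_zero.mpr (h1.trans h2.symm), pow_add, mul_smul]
  simp only [smul_sub]
  abel

/-- the map to the transform -/
def toTransform (n : ℤ) : G (𝒜 := 𝒜) (ℳ := ℳ) n →+ _root_.LocCoh.DT (irr 𝒜) M :=
  AddMonoidHom.mk' (fun s => (exists_spec f d hd hf hirr s).choose) fun s s' => by
    refine spec_unique f d hd hf hirr (exists_spec f d hd hf hirr (s + s')).choose_spec ?_
    have h := (exists_spec f d hd hf hirr s).choose_spec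
    have h' := (exists_spec f d hd hf hirr s').choose_spec
    intro k e c hrep
    obtain ⟨e₁, c₁, hc₁⟩ := exists_rep f d hf hd s k
    obtain ⟨e₂, c₂, hc₂⟩ := exists_rep f d hf hd s' k
    have hsum : ∃ N : ℕ, f k ^ N • (f k ^ (e₁ + e₂) • c - f k ^ e • (f k ^ e₂ • c₁ + f k ^ e₁ • c₂)) = 0 := by
      refine rep_eq f d hd hf hrep ?_
      have a₁ := rep_pow f d hf hc₁ e₂
      have a₂ := rep_pow f d hf hc₂ e₁
      rw [add_comm e₂ e₁] at a₂
      refine ⟨?_, fun x hx => ?_⟩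
      · obtain ⟨⟨i, hi, hdi⟩, -⟩ := a₁
        obtain ⟨⟨i', hi', hdi'⟩, -⟩ := a₂
        rcases hdi with hdi | hz
        · rcases hdi' with hdi' | hz'
          · obtain rfl : i = i' := by exact_mod_cast hdi.trans hdi'.symm
            exact ⟨i, add_mem hi hi', Or.inl hdi⟩
          · exact ⟨i, by rw [hz', add_zero]; exact hi, Or.inl hdi⟩
        · exact ⟨i', by rw [hz, zero_add]; exact hi', hdi'.imp id fun h => by rw [hz, h, add_zero]⟩
      · refine ((congrArg₂ (· + ·) (a₁.2 x hx) (a₂.2 x hx)) :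
          valAt s x trivial + valAt s' x trivial = _).trans ?_
        refine (LocalizedModule.mk_add_mk).trans (mk_eq_mk_iff.mpr ⟨1, GrMod.one_nin x, ?_⟩)
        simp only [one_smul, Submonoid.smul_def, smul_add, sub_eq_zero, mul_smul]
    obtain ⟨N, hN⟩ := hsum
    obtain ⟨N₁, hN₁⟩ := h k e₁ c₁ hc₁
    obtain ⟨N₂, hN₂⟩ := h' k e₂ c₂ hc₂
    refine ⟨N + N₁ + N₂ + e₁ + e₂, ?_⟩
    have h0 := congrArg (_root_.LocCoh.toDT (irr 𝒜) M) hN
    rw [map_smul, map_sub, map_smul, map_smul, map_add, map_smul, map_smul, map_zero] at h0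
    generalize (exists_spec f d hd hf hirr s).choose = x at hN₁ ⊢
    generalize (exists_spec f d hd hf hirr s').choose = x' at hN₂ ⊢
    have key : f k ^ (N + N₁ + N₂ + e₁ + e₂) • (f k ^ e • (x + x') - _root_.LocCoh.toDT (irr 𝒜) M c) =
        (f k ^ (N + N₂ + e + e₂)) • (f k ^ N₁ • (f k ^ e₁ • x - _root_.LocCoh.toDT (irr 𝒜) M c₁)) +
        (f k ^ (N + N₁ + e + e₁)) • (f k ^ N₂ • (f k ^ e₂ • x' - _root_.LocCoh.toDT (irr 𝒜) M c₂)) -
        f k ^ (N₁ + N₂) • (f k ^ N • (f k ^ (e₁ + e₂) • _root_.LocCoh.toDT (irr 𝒜) M c -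
          f k ^ e • (f k ^ e₂ • _root_.LocCoh.toDT (irr 𝒜) M c₁ + f k ^ e₁ • _root_.LocCoh.toDT (irr 𝒜) M c₂))) := by
      simp only [smul_sub, smul_add, smul_smul, ← pow_add]
      match_scalars <;> ring
    rw [key, hN₁, hN₂, h0, smul_zero, smul_zero, smul_zero, add_zero, sub_zero]

theorem toTransform_spec {n : ℤ} (s : G (𝒜 := 𝒜) (ℳ := ℳ) n) :
    Spec' f d s (toTransform f d hd hf hirr n s) := (exists_spec f d hd hf hirr s).choose_spec

theorem toTransform_alpha (i : ℕ) (m : ℳ i) :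
    toTransform f d hd hf hirr (i : ℤ) (GrMod.globalOf 𝒜 ℳ m) = _root_.LocCoh.toDT (irr 𝒜) M m := by
  refine spec_unique f d hd hf hirr (toTransform_spec f d hd hf hirr _) fun k e c hrep => ?_
  obtain ⟨N, hN⟩ := rep_eq f d hd hf
    (show Rep f d (GrMod.globalOf 𝒜 ℳ m) k 0 (m : M) from
      ⟨⟨i, m.2, Or.inl (by simp)⟩, fun x hx => mk_eq_mk_iff.mpr ⟨1, GrMod.one_nin x, by simp⟩⟩) hrep
  refine ⟨N, ?_⟩
  rw [← map_smul, ← map_sub, ← map_smul, ← map_zero (_root_.LocCoh.toDT (irr 𝒜) M)]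
  simpa using congrArg (_root_.LocCoh.toDT (irr 𝒜) M) hN

/-- the map on the direct sum -/
def Ψ : DirectSum ℤ (fun n : ℤ => G (𝒜 := 𝒜) (ℳ := ℳ) n) →+ _root_.LocCoh.DT (irr 𝒜) M :=
  DirectSum.toAddMonoid fun n => toTransform f d hd hf hirr n

theorem injective_Ψ : Function.Injective (Ψ (ℳ := ℳ) f d hd hf hirr) := by
  classical
  refine (injective_iff_map_eq_zero _).mpr fun v hv => ?_
  have hsum : ∑ n ∈ DFinsupp.support v, toTransform f d hd hf hirr n (v n) = 0 := by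
    rw [← hv]
    conv_rhs => rw [← DirectSum.sum_support_of v]
    rw [map_sum]
    exact Finset.sum_congr rfl fun n _ => (DirectSum.toAddMonoid_of _ _ _).symm
  refine DFinsupp.ext fun n => Subtype.ext (funext fun x => Subtype.ext ?_)
  obtain ⟨k, hk⟩ := exists_not_mem f hirr x.1
  choose e c hc using fun m => exists_rep f d hf hd (v m) k
  choose N hN using fun m => toTransform_spec f d hd hf hirr (v m) k (e m) (c m) (hc m)
  let E := (DFinsupp.support v).sup e
  let N₀ := (DFinsupp.support v).sup N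
  let c' : ℤ → M := fun m => f k ^ (E - e m) • c m
  by_cases hn : n ∈ DFinsupp.support v
  swap
  · rw [DFinsupp.notMem_support_iff.mp hn]
    rfl
  have hterm : ∀ m ∈ DFinsupp.support v, f k ^ N₀ • _root_.LocCoh.toDT (irr 𝒜) M (c' m) =
      f k ^ N₀ • f k ^ E • toTransform f d hd hf hirr m (v m) := fun m hm => by
    have h1 := hN m
    rw [smul_sub, sub_eq_zero] at h1
    have he : e m ≤ E := Finset.le_sup hm
    have hN' : N m ≤ N₀ := Finset.le_sup hm
    rw [map_smul, ← Nat.sub_add_cancel hN', pow_add, mul_smul, mul_smul, smul_comm (f k ^ N m), ← h1,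
      smul_smul, smul_smul, smul_smul, smul_smul, smul_smul]
    congr 1
    have : f k ^ E = f k ^ (E - e m) * f k ^ e m := by rw [← pow_add, Nat.sub_add_cancel he]
    rw [this]
    ring
  have h0 : _root_.LocCoh.toDT (irr 𝒜) M (f k ^ N₀ • ∑ m ∈ DFinsupp.support v, c' m) = 0 := by
    rw [map_smul, map_sum, Finset.smul_sum, Finset.sum_congr rfl hterm, ← Finset.smul_sum,
      ← Finset.smul_sum, hsum, smul_zero, smul_zero]
  obtain ⟨p, hp⟩ : f k ^ N₀ • ∑ m ∈ DFinsupp.support v, c' m ∈ DRing.torsionSub (irr 𝒜) M := by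
    rw [← ker_toDT]
    exact h0
  have h1 := hp _ (Ideal.pow_mem_pow (mem_irr f d hd hf k) p)
  rw [smul_smul, ← pow_add, Finset.smul_sum] at h1
  obtain ⟨⟨i, hi, hdeg⟩, hval⟩ := hc n
  refine (hval x.1 hk).trans (mk_eq_zero_iff.mpr ?_)
  rcases hdeg with hdeg | hz
  swap
  · exact ⟨1, GrMod.one_nin x.1, by rw [hz, smul_zero]⟩
  refine ⟨f k ^ (p + N₀ + (E - e n)), pow_nin hk _, ?_⟩
  have hD : f k ^ (p + N₀) • c' n ∈ ℳ ((p + N₀) * d k + ((E - e n) * d k + i)) :=
    pow_smul_mem hf (pow_smul_mem hf hi _) _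
  have h2 := congrArg (cpt ℳ ((p + N₀) * d k + ((E - e n) * d k + i))) h1
  rw [map_sum, map_zero, Finset.sum_eq_single_of_mem n hn ?_, cpt_same hD] at h2
  · rwa [pow_add, mul_smul]
  intro m hm hmn
  obtain ⟨⟨i', hi', hdeg'⟩, -⟩ := hc m
  rcases hdeg' with hdeg' | hz'
  · refine cpt_ne (pow_smul_mem hf (pow_smul_mem hf hi' (E - e m)) (p + N₀)) fun heq => hmn ?_
    have he : e m ≤ E := Finset.le_sup hm
    have he' : e n ≤ E := Finset.le_sup hn
    have h3 : (((E - e m) * d k + i' : ℕ) : ℤ) = ((E - e n) * d k + i : ℕ) := by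
      exact_mod_cast Nat.add_left_cancel heq
    push_cast [Nat.cast_sub he, Nat.cast_sub he'] at h3
    rw [hdeg, hdeg'] at h3
    linarith
  · simp [c', hz']

omit [SetLike.GradedSMul 𝒜 ℳ] in
/-- the component in an integral degree -/
theorem cpt_int_smul [SetLike.GradedSMul 𝒜 ℳ] {a : ℕ} {g : R} (hg : g ∈ 𝒜 a) (z : ℤ) (m : M) :
    (if 0 ≤ z + a then cpt ℳ (z + a).toNat (g • m) else 0) =
      g • (if 0 ≤ z then cpt ℳ z.toNat m else 0) := by
  by_cases hz : 0 ≤ z
  · rw [if_pos hz, if_pos (by omega), cpt_smul_left hg, if_pos (by omega)]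
    congr 3
    omega
  · rw [if_neg hz, smul_zero]
    split_ifs with h
    · rw [cpt_smul_left hg, if_neg (by omega)]
    · rfl

theorem surjective_Ψ : Function.Surjective (Ψ (ℳ := ℳ) f d hd hf hirr) := by
  classical
  intro x
  obtain ⟨p, hp⟩ := exists_smul_eq_toDT x
  choose m hm using fun k => hp (f k ^ p) (Ideal.pow_mem_pow (mem_irr f d hd hf k) p)
  have hcompat : ∀ k l, ∃ q : ℕ, (f k * f l) ^ q • (f l ^ p • m k - f k ^ p • m l) = 0 := by
    intro k l
    obtain ⟨q, hq⟩ : f l ^ p • m k - f k ^ p • m l ∈ DRing.torsionSub (irr 𝒜) M := by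
      rw [← ker_toDT, LinearMap.mem_ker, map_sub, map_smul, map_smul, ← hm, ← hm, smul_comm, sub_self]
    exact ⟨q, hq _ (Ideal.pow_mem_pow (Ideal.mul_mem_right _ _ (mem_irr f d hd hf k)) q)⟩
  choose q hq using hcompat
  -- components
  let C : ℤ → Fin r → M := fun n k =>
    if 0 ≤ (p : ℤ) * d k + n then cpt ℳ ((p : ℤ) * d k + n).toNat (m k) else 0
  have hCdeg : ∀ n k, ∃ i : ℕ, C n k ∈ ℳ i ∧ ((i : ℤ) = p * d k + n ∨ C n k = 0) := fun n k => by
    by_cases h : 0 ≤ (p : ℤ) * d k + n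
    · exact ⟨((p : ℤ) * d k + n).toNat, by rw [show C n k = _ from if_pos h]; exact cpt_mem _ _,
        Or.inl (Int.toNat_of_nonneg h)⟩
    · exact ⟨0, by rw [show C n k = _ from if_neg h]; exact zero_mem _, Or.inr (if_neg h)⟩
  have hC : ∀ n k l, (f k * f l) ^ q k l • (f l ^ p • C n k - f k ^ p • C n l) = 0 := by
    intro n k l
    have hg : (f k * f l) ^ q k l * f l ^ p ∈ 𝒜 (q k l * (d k + d l) + p * d l) :=
      SetLike.mul_mem_graded (by simpa using SetLike.pow_mem_graded (q k l) (SetLike.mul_mem_graded (hf k) (hf l)))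
        (by simpa using SetLike.pow_mem_graded p (hf l))
    have hg' : (f k * f l) ^ q k l * f k ^ p ∈ 𝒜 (q k l * (d k + d l) + p * d k) :=
      SetLike.mul_mem_graded (by simpa using SetLike.pow_mem_graded (q k l) (SetLike.mul_mem_graded (hf k) (hf l)))
        (by simpa using SetLike.pow_mem_graded p (hf k))
    have h1 := cpt_int_smul (ℳ := ℳ) hg ((p : ℤ) * d k + n) (m k)
    have h2 := cpt_int_smul (ℳ := ℳ) hg' ((p : ℤ) * d l + n) (m l)
    rw [smul_sub, ← mul_smul, ← mul_smul, sub_eq_zero]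
    refine h1.symm.trans (Eq.trans ?_ h2)
    have he : ((f k * f l) ^ q k l * f l ^ p) • m k = ((f k * f l) ^ q k l * f k ^ p) • m l := by
      rw [mul_smul, mul_smul, ← sub_eq_zero, ← smul_sub, hq]
    have e : (p : ℤ) * d k + n + (q k l * (d k + d l) + p * d l : ℕ) =
        (p : ℤ) * d l + n + (q k l * (d k + d l) + p * d k : ℕ) := by push_cast; ring
    rw [he, e]
  have hsec : ∀ n : ℤ, ∃ s : G (𝒜 := 𝒜) (ℳ := ℳ) n, ∀ k, Rep f d s k p (C n k) := by
    intro n
    choose κ hκ using fun y : (⊤ : Opens (ProjectiveSpectrum.top 𝒜)) => exists_not_mem f hirr y.1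
    have hmem : ∀ y : (⊤ : Opens (ProjectiveSpectrum.top 𝒜)),
        mk y.1 (C n (κ y)) (f (κ y) ^ p) (pow_nin (hκ y) p) ∈ GrMod.tildeAt 𝒜 ℳ n y.1 := fun y => by
      obtain ⟨i, hi, hdeg | hz⟩ := hCdeg n (κ y)
      · refine Submodule.subset_span ⟨i, p * d (κ y), ⟨_, hi⟩,
          ⟨f (κ y) ^ p, by simpa using SetLike.pow_mem_graded p (hf (κ y))⟩, pow_nin (hκ y) p, ?_, rfl⟩
        push_cast
        exact hdeg
      · rw [hz, Groth.Agent.GrModLib.mk, LocalizedModule.zero_mk]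
        exact zero_mem _
    have heq : ∀ (y : (⊤ : Opens (ProjectiveSpectrum.top 𝒜))) (k : Fin r)
        (hk : f k ∉ y.1.asHomogeneousIdeal),
        mk y.1 (C n (κ y)) (f (κ y) ^ p) (pow_nin (hκ y) p) = mk y.1 (C n k) (f k ^ p) (pow_nin hk p) :=
      fun y k hk => mk_eq_mk_iff.mpr ⟨(f (κ y) * f k) ^ q (κ y) k,
        pow_nin (fun h => (y.1.isPrime.mem_or_mem h).elim (hκ y) hk) _, hC n (κ y) k⟩
    let F : ∀ y : (⊤ : Opens (ProjectiveSpectrum.top 𝒜)), GrMod.tildeAt 𝒜 ℳ n y.1 := fun y => ⟨_, hmem y⟩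
    have hF : (GrMod.isLocFrac 𝒜 ℳ n).pred (U := (⊤ : Opens (ProjectiveSpectrum.top 𝒜))) F := fun y => by
      obtain ⟨k, hk⟩ := exists_not_mem f hirr y.1
      obtain ⟨i, hi, hdeg⟩ := hCdeg n k
      refine ⟨dPlus 𝒜 (f k), hk, homOfLE le_top, i, p * d k, ⟨_, hi⟩,
        ⟨f k ^ p, by simpa using SetLike.pow_mem_graded p (hf k)⟩, fun z => pow_nin z.2 p,
        hdeg.imp (fun h => by push_cast; exact h) id, fun z => heq ⟨z.1, trivial⟩ k z.2⟩
    exact ⟨⟨F, hF⟩, fun k => ⟨hCdeg n k, fun y hy => heq ⟨y, trivial⟩ k hy⟩⟩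
  choose s hs using hsec
  choose S hS using fun k => exists_sum_cpt (ℳ := ℳ) (m k)
  let T : Finset ℤ := Finset.univ.biUnion fun k => (S k).image fun j : ℕ => (j : ℤ) - p * d k
  refine ⟨∑ n ∈ T, DirectSum.of _ n (s n), ?_⟩
  refine sub_eq_zero.mp (eq_zero_of_forall_pow (irr_le f hirr) _ fun k => ?_)
  have hsum : ∑ n ∈ T, C n k = m k := by
    have hsub : (S k).image (fun j : ℕ => (j : ℤ) - p * d k) ⊆ T :=
      fun z hz => Finset.mem_biUnion.mpr ⟨k, Finset.mem_univ _, hz⟩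
    rw [← Finset.sum_subset hsub]
    · rw [Finset.sum_image (fun a _ b _ h => by simpa using h)]
      conv_rhs => rw [← hS k]
      refine Finset.sum_congr rfl fun j _ => ?_
      simp [C]
    · intro z _ hz
      simp only [C]
      split_ifs with h
      · rw [← hS k, map_sum]
        refine Finset.sum_eq_zero fun j hj => cpt_ne (cpt_mem j _) fun e => hz ?_
        exact Finset.mem_image.mpr ⟨j, hj, by omega⟩
      · rfl
  choose N hN using fun n => toTransform_spec f d hd hf hirr (s n) k p (C n k) (hs n k)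
  refine ⟨T.sup N + p, ?_⟩
  simp only [Ψ, map_sum, DirectSum.toAddMonoid_of]
  rw [smul_sub, pow_add, mul_smul, mul_smul, hm, ← hsum, map_sum, Finset.smul_sum, Finset.smul_sum,
    Finset.smul_sum, ← Finset.sum_sub_distrib]
  refine Finset.sum_eq_zero fun n hn => ?_
  rw [← smul_sub, ← Nat.sub_add_cancel (Finset.le_sup hn (f := N)), pow_add, mul_smul, hN, smul_zero]

end Groth.Agent.LocCohSweep.GradedTransform
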