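import Groth.Agent.LocCoh.Acyclic

/-!
# Long exact sequences from effaceable exact sequences of δ-functors

* `Coh R`: a δ-functor of `R`-modules indexed by `ℕ`, as plain exact sequences;
* `Tri R`: maps `A → B → C` of such, exact in degree `0`, `A`, `B` effaceable by injectives and `B → C`
  surjective on injectives; `Tri.exists_les` is the resulting long exact sequence.
-/

universe u

open CategoryTheory Limits

namespace Groth.Agent.LocCohSweep.ThreeFunctor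

variable (R : Type u) [CommRing R]

/-- A δ-functor. -/
structure Coh where
  F : ℕ → ModuleCat.{u} R ⥤ ModuleCat.{u} R
  δ : ∀ (i : ℕ) {S : ShortComplex (ModuleCat.{u} R)}, S.ShortExact →
    ((F i).obj S.X₃ →ₗ[R] (F (i + 1)).obj S.X₁)
  exact₁ : ∀ (i : ℕ) {S : ShortComplex (ModuleCat.{u} R)} (hS : S.ShortExact),
    Function.Exact (δ i hS) ((F (i + 1)).map S.f).hom
  exact₂ : ∀ (i : ℕ) {S : ShortComplex (ModuleCat.{u} R)}, S.ShortExact →
    Function.Exact ((F i).map S.f).hom ((F i).map S.g).hom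
  exact₃ : ∀ (i : ℕ) {S : ShortComplex (ModuleCat.{u} R)} (hS : S.ShortExact),
    Function.Exact ((F i).map S.g).hom (δ i hS)
  injective₀ : ∀ {S : ShortComplex (ModuleCat.{u} R)}, S.ShortExact →
    Function.Injective ((F 0).map S.f).hom

/-- The data for a long exact sequence. -/
structure Tri where
  A : Coh R
  B : Coh R
  C : Coh R
  p : ∀ i, A.F i ⟶ B.F i
  d : ∀ i, B.F i ⟶ C.F i
  p_δ : ∀ (i : ℕ) {S : ShortComplex (ModuleCat.{u} R)} (hS : S.ShortExact) (a : (A.F i).obj S.X₃),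
    ((p (i + 1)).app S.X₁).hom (A.δ i hS a) = B.δ i hS (((p i).app S.X₃).hom a)
  d_δ : ∀ (i : ℕ) {S : ShortComplex (ModuleCat.{u} R)} (hS : S.ShortExact) (b : (B.F i).obj S.X₃),
    ((d (i + 1)).app S.X₁).hom (B.δ i hS b) = C.δ i hS (((d i).app S.X₃).hom b)
  injective_p : ∀ M, Function.Injective ((p 0).app M).hom
  exact_zero : ∀ M, Function.Exact ((p 0).app M).hom ((d 0).app M).hom
  d_p : ∀ i M (a : (A.F i).obj M), ((d i).app M).hom (((p i).app M).hom a) = 0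
  subsingleton_A : ∀ (i : ℕ) (E : ModuleCat.{u} R) [Injective E], Subsingleton ((A.F (i + 1)).obj E)
  subsingleton_B : ∀ (i : ℕ) (E : ModuleCat.{u} R) [Injective E], Subsingleton ((B.F (i + 1)).obj E)
  surjective_d : ∀ (i : ℕ) (E : ModuleCat.{u} R) [Injective E],
    Function.Surjective ((d i).app E).hom

variable {R}

theorem nat_apply {F G : ModuleCat.{u} R ⥤ ModuleCat.{u} R} (η : F ⟶ G) {X Y : ModuleCat.{u} R}
    (f : X ⟶ Y) (x : F.obj X) :
    (η.app Y).hom ((F.map f).hom x) = (G.map f).hom ((η.app X).hom x) :=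
  DFunLike.congr_fun (congrArg ModuleCat.Hom.hom (η.naturality f)) x

/-- A linear map from a total single-valued linear relation. -/
theorem exists_linearMap_of_rel {C A W : Type u} [AddCommGroup C] [Module R C] [AddCommGroup A]
    [Module R A] [AddCommGroup W] [Module R W] (U : Submodule R W) (l : W →ₗ[R] C) (r : W →ₗ[R] A)
    (hl : ∀ c, ∃ w ∈ U, l w = c) (h0 : ∀ w ∈ U, l w = 0 → r w = 0) :
    ∃ δ : C →ₗ[R] A, ∀ w ∈ U, δ (l w) = r w := by
  let l' : U →ₗ[R] C := l ∘ₗ U.subtype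
  have hl' : Function.Surjective l' := fun c => by
    obtain ⟨w, hw, rfl⟩ := hl c
    exact ⟨⟨w, hw⟩, rfl⟩
  let φ := (LinearMap.ker l').liftQ (r ∘ₗ U.subtype) (fun w hw => h0 w.1 w.2 hw)
  refine ⟨φ ∘ₗ (LinearMap.quotKerEquivOfSurjective l' hl').symm.toLinearMap, fun w hw => ?_⟩
  show φ ((LinearMap.quotKerEquivOfSurjective l' hl').symm (l' ⟨w, hw⟩)) = r w
  rw [show (LinearMap.quotKerEquivOfSurjective l' hl').symm (l' ⟨w, hw⟩) =
      Submodule.Quotient.mk ⟨w, hw⟩ by rw [LinearEquiv.symm_apply_eq]; rfl]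
  rfl

namespace Tri

variable (T : Tri R)

theorem exact_middle : ∀ (i : ℕ) (M : ModuleCat.{u} R),
    Function.Exact ((T.p i).app M).hom ((T.d i).app M).hom := by
  intro i
  induction i with
  | zero => exact T.exact_zero
  | succ i ih =>
    intro M x
    refine ⟨fun hx => ?_, ?_⟩
    swap
    · rintro ⟨a, rfl⟩
      exact T.d_p _ M a
    obtain ⟨S, hS, rfl, hE⟩ := LocCoh.exists_injective_shortExact M
    obtain ⟨y, rfl⟩ := (T.B.exact₁ i hS x).mp ((T.subsingleton_B i S.X₂).elim _ _)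
    rw [T.d_δ] at hx
    obtain ⟨e, he⟩ := (T.C.exact₃ i hS _).mp hx
    obtain ⟨b, rfl⟩ := T.surjective_d i S.X₂ e
    rw [← nat_apply] at he
    obtain ⟨a, ha⟩ := (ih S.X₃ (y - ((T.B.F i).map S.g).hom b)).mp (by rw [map_sub, he, sub_self])
    refine ⟨T.A.δ i hS a, ?_⟩
    rw [T.p_δ, ha, map_sub, (T.B.exact₃ i hS).apply_apply_eq_zero, sub_zero]

theorem exists_δ : ∀ (i : ℕ) (M : ModuleCat.{u} R),
    ∃ δ : (T.C.F i).obj M →ₗ[R] (T.A.F (i + 1)).obj M,
      Function.Exact δ ((T.p (i + 1)).app M).hom ∧ Function.Exact ((T.d i).app M).hom δ := by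
  intro i
  induction i with
  | zero =>
    intro M
    obtain ⟨S, hS, rfl, hE⟩ := LocCoh.exists_injective_shortExact M
    have hfC := T.C.injective₀ hS
    have hpQ := T.injective_p S.X₃
    let W := (T.C.F 0).obj S.X₁ × ((T.B.F 0).obj S.X₂ × (T.A.F 0).obj S.X₃)
    let U : Submodule R W :=
      { carrier := {w | ((T.d 0).app S.X₂).hom w.2.1 = ((T.C.F 0).map S.f).hom w.1 ∧
          ((T.B.F 0).map S.g).hom w.2.1 = ((T.p 0).app S.X₃).hom w.2.2}
        add_mem' := by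
          rintro x y ⟨h1, h2⟩ ⟨h3, h4⟩
          exact ⟨(map_add _ _ _).trans ((congrArg₂ (· + ·) h1 h3).trans (map_add _ _ _).symm),
            (map_add _ _ _).trans ((congrArg₂ (· + ·) h2 h4).trans (map_add _ _ _).symm)⟩
        zero_mem' := ⟨(map_zero _).trans (map_zero _).symm, (map_zero _).trans (map_zero _).symm⟩
        smul_mem' := by
          rintro c x ⟨h1, h2⟩
          exact ⟨(map_smul _ c _).trans ((congrArg (c • ·) h1).trans (map_smul _ c _).symm),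
            (map_smul _ c _).trans ((congrArg (c • ·) h2).trans (map_smul _ c _).symm)⟩ }
    obtain ⟨δ, hδ⟩ := exists_linearMap_of_rel U
      (LinearMap.fst R _ _) (T.A.δ 0 hS ∘ₗ LinearMap.snd R _ _ ∘ₗ LinearMap.snd R _ _) (fun z => by
        obtain ⟨b, hb⟩ := T.surjective_d 0 S.X₂ (((T.C.F 0).map S.f).hom z)
        obtain ⟨a, ha⟩ := (T.exact_zero S.X₃ (((T.B.F 0).map S.g).hom b)).mp (by
          rw [nat_apply, hb, (T.C.exact₂ 0 hS).apply_apply_eq_zero])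
        exact ⟨(z, b, a), ⟨hb, ha.symm⟩, rfl⟩) (by
        rintro ⟨z, b, a⟩ ⟨h1, h2⟩ (rfl : z = 0)
        obtain ⟨a', ha'⟩ := (T.exact_zero S.X₂ b).mp (h1.trans (map_zero _))
        have : a = ((T.A.F 0).map S.g).hom a' := hpQ (by rw [← h2, nat_apply, ha'])
        show T.A.δ 0 hS a = 0
        rw [this, (T.A.exact₃ 0 hS).apply_apply_eq_zero])
    have total : ∀ z, ∃ b a, ((T.d 0).app S.X₂).hom b = ((T.C.F 0).map S.f).hom z ∧
        ((T.B.F 0).map S.g).hom b = ((T.p 0).app S.X₃).hom a ∧ δ z = T.A.δ 0 hS a := fun z => by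
      obtain ⟨b, hb⟩ := T.surjective_d 0 S.X₂ (((T.C.F 0).map S.f).hom z)
      obtain ⟨a, ha⟩ := (T.exact_zero S.X₃ (((T.B.F 0).map S.g).hom b)).mp (by
        rw [nat_apply, hb, (T.C.exact₂ 0 hS).apply_apply_eq_zero])
      exact ⟨b, a, hb, ha.symm, hδ (z, b, a) ⟨hb, ha.symm⟩⟩
    refine ⟨δ, fun x => ⟨fun hx => ?_, ?_⟩, fun z => ⟨fun hz => ?_, ?_⟩⟩
    · obtain ⟨a, rfl⟩ := (T.A.exact₁ 0 hS x).mp ((T.subsingleton_A 0 S.X₂).elim _ _)
      rw [T.p_δ] at hx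
      obtain ⟨b, hb⟩ := (T.B.exact₃ 0 hS _).mp hx
      obtain ⟨z, hz⟩ := (T.C.exact₂ 0 hS (((T.d 0).app S.X₂).hom b)).mp (by
        rw [← nat_apply, hb, T.d_p])
      exact ⟨z, hδ (z, b, a) ⟨hz.symm, hb⟩⟩
    · rintro ⟨z, rfl⟩
      obtain ⟨b, a, -, hb, hd⟩ := total z
      rw [hd, T.p_δ, ← hb, (T.B.exact₃ 0 hS).apply_apply_eq_zero]
    · obtain ⟨b, a, hb, hga, hd⟩ := total z
      rw [hd] at hz
      obtain ⟨a', rfl⟩ := (T.A.exact₃ 0 hS a).mp hz
      obtain ⟨b'', hb''⟩ := (T.B.exact₂ 0 hS (b - ((T.p 0).app S.X₂).hom a')).mp (by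
        rw [map_sub, hga, nat_apply, sub_self])
      refine ⟨b'', hfC ?_⟩
      rw [← nat_apply, hb'', map_sub, T.d_p, sub_zero, hb]
    · rintro ⟨b, rfl⟩
      exact (hδ (((T.d 0).app S.X₁).hom b, ((T.B.F 0).map S.f).hom b, 0)
        ⟨nat_apply _ _ _, ((T.B.exact₂ 0 hS).apply_apply_eq_zero b).trans (map_zero _).symm⟩).trans
        (map_zero (T.A.δ 0 hS))
  | succ i ih =>
    intro M
    obtain ⟨S, hS, rfl, hE⟩ := LocCoh.exists_injective_shortExact M
    obtain ⟨δQ, hQ₁, hQ₂⟩ := ih S.X₃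
    have hC : Function.Surjective (T.C.δ i hS) := fun z => by
      obtain ⟨b, hb⟩ := T.surjective_d (i + 1) S.X₂ (((T.C.F (i + 1)).map S.f).hom z)
      rw [(T.subsingleton_B i S.X₂).elim b 0, map_zero] at hb
      exact (T.C.exact₁ i hS z).mp hb.symm
    obtain ⟨δ, hδ⟩ := exists_linearMap_of_rel (⊤ : Submodule R _) (T.C.δ i hS)
      (T.A.δ (i + 1) hS ∘ₗ δQ) (fun z => (hC z).imp fun w hw => ⟨trivial, hw⟩) (fun c _ hc => by
        obtain ⟨e, rfl⟩ := (T.C.exact₃ i hS c).mp hc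
        obtain ⟨b, rfl⟩ := T.surjective_d i S.X₂ e
        rw [LinearMap.comp_apply, ← nat_apply, hQ₂.apply_apply_eq_zero, map_zero])
    have hδ' : ∀ c, δ (T.C.δ i hS c) = T.A.δ (i + 1) hS (δQ c) := fun c => hδ c trivial
    refine ⟨δ, fun x => ⟨fun hx => ?_, ?_⟩, fun z => ⟨fun hz => ?_, ?_⟩⟩
    · obtain ⟨a, rfl⟩ := (T.A.exact₁ (i + 1) hS x).mp ((T.subsingleton_A (i + 1) S.X₂).elim _ _)
      rw [T.p_δ] at hx
      obtain ⟨b, hb⟩ := (T.B.exact₃ (i + 1) hS _).mp hx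
      rw [(T.subsingleton_B i S.X₂).elim b 0, map_zero] at hb
      obtain ⟨c, rfl⟩ := (hQ₁ a).mp hb.symm
      exact ⟨T.C.δ i hS c, hδ' c⟩
    · rintro ⟨z, rfl⟩
      obtain ⟨c, rfl⟩ := hC z
      rw [hδ', T.p_δ, hQ₁.apply_apply_eq_zero, map_zero]
    · obtain ⟨c, rfl⟩ := hC z
      rw [hδ'] at hz
      obtain ⟨a', ha'⟩ := (T.A.exact₃ (i + 1) hS _).mp hz
      rw [(T.subsingleton_A i S.X₂).elim a' 0, map_zero] at ha'
      obtain ⟨b, rfl⟩ := (hQ₂ c).mp ha'.symm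
      exact ⟨T.B.δ i hS b, T.d_δ i hS b⟩
    · rintro ⟨b, rfl⟩
      obtain ⟨b', rfl⟩ := (T.B.exact₁ i hS b).mp ((T.subsingleton_B i S.X₂).elim _ _)
      rw [T.d_δ, hδ', hQ₂.apply_apply_eq_zero, map_zero]

end Tri

end Groth.Agent.LocCohSweep.ThreeFunctor
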