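import Groth.Agent.LocCoh.TopVanishing
import Groth.Agent.LocCoh.TopDegree
import Groth.Agent.LocCoh.NonVanishing
import Groth.Agent.LocCoh.BaseChangeIso
import Groth.Agent.LocCoh.Misc

/-!
# Top-degree local cohomology
-/

universe u

open CategoryTheory Limits

namespace Groth.Agent.LocCohSweep

variable {R : Type u} [CommRing R] [IsNoetherianRing R]

theorem nontrivial_H_height (I : Ideal R) (hI : I ≠ ⊤) (h : ℕ) (hh : I.height = h) :
    Nontrivial (LocCoh.H I h R) := by
  obtain ⟨P, hP, hIP, hPh⟩ := Ideal.exists_isPrime_height_eq hh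
  let L := Localization.AtPrime P
  have hrad : (I.map (algebraMap R L)).radical = (IsLocalRing.maximalIdeal L).radical := by
    rw [(IsLocalRing.maximalIdeal.isMaximal L).isPrime.radical]
    refine le_antisymm ?_ ?_
    · rw [← (IsLocalRing.maximalIdeal.isMaximal L).isPrime.radical]
      exact Ideal.radical_mono ((Ideal.map_mono hIP).trans_eq
        (IsLocalization.AtPrime.map_eq_maximalIdeal P L))
    · rw [Ideal.radical_eq_sInf]
      refine le_sInf fun Q ⟨hJQ, hQ⟩ => ?_
      haveI := hQ
      have hle : Q.comap (algebraMap R L) ≤ P :=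
        (Ideal.comap_mono (IsLocalRing.le_maximalIdeal hQ.ne_top)).trans
          (IsLocalization.AtPrime.under_maximalIdeal L P).le
      rcases hle.eq_or_lt with e | hlt
      · rw [← IsLocalization.AtPrime.map_eq_maximalIdeal P L]
        exact (Ideal.map_mono e.ge).trans Ideal.map_comap_le
      · exfalso
        haveI : (Q.comap (algebraMap R L)).IsPrime := hQ.comap _
        have h1 := Ideal.height_strict_mono_of_isPrime hlt
        have h2 : I.height ≤ (Q.comap (algebraMap R L)).height :=
          Ideal.height_mono (Ideal.map_le_iff_le_comap.mp hJQ)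
        rw [hh] at h2
        rw [hPh] at h1
        exact absurd (h2.trans_lt h1) (lt_irrefl _)
  haveI := hP
  have hdim : Module.supportDim L L = (h : WithBot ℕ∞) := by
    rw [Module.supportDim_self_eq_ringKrullDim, IsLocalization.AtPrime.ringKrullDim_eq_height P L, hPh]
    rfl
  have hm := LocCoh.nontrivial_H_supportDim (ModuleCat.of L L) h hdim
  by_contra hR
  haveI := not_nontrivial_iff_subsingleton.mp hR
  obtain ⟨e⟩ := LocCoh.BaseChangeIso.nonempty_H_localized I P.primeCompl R h
  haveI : Subsingleton (LocalizedModule P.primeCompl (LocCoh.H I h R)) :=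
    LocalizedModule.subsingleton_iff.2 fun m => ⟨1, P.primeCompl.one_mem, Subsingleton.elim _ _⟩
  have h1 : Subsingleton (LocCoh.H (I.map (algebraMap R L)) h (LocalizedModule P.primeCompl R)) :=
    e.symm.toEquiv.subsingleton
  exact not_nontrivial_iff_subsingleton.mpr
    ((LocCoh.subsingleton_H_iff_of_radical_eq hrad h (ModuleCat.of L L)).mp h1) hm

theorem forall_H_dim_subsingleton_iff [IsLocalRing R] (d : ℕ) (hd : ringKrullDim R = d) :
    (∀ I : Ideal R, 0 < ringKrullDim (R ⧸ I) → Subsingleton (LocCoh.H I d R)) ↔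
      (∀ (p : Ideal R) [p.IsPrime], ringKrullDim (R ⧸ p) = 1 → Subsingleton (LocCoh.H p d R)) := by
  refine ⟨fun h p _ hp => h p (by rw [hp]; norm_num), fun h I hI => ?_⟩
  have hItop : I ≠ ⊤ := fun e => by
    haveI : Subsingleton (R ⧸ I) := Ideal.Quotient.subsingleton_iff.mpr e
    rw [ringKrullDim_eq_bot_of_subsingleton] at hI
    exact not_lt_bot hI
  have hd0 : d ≠ 0 := fun e => by
    have h0 : ringKrullDim (R ⧸ I) ≤ ringKrullDim R := ringKrullDim_quotient_le I
    rw [hd, e] at h0
    exact absurd (hI.trans_le h0) (lt_irrefl _)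
  obtain ⟨k, rfl⟩ := Nat.exists_eq_succ_of_ne_zero hd0
  haveI : Nontrivial (R ⧸ I) := Ideal.Quotient.nontrivial_iff.mpr hItop
  haveI : IsLocalRing (R ⧸ I) := IsLocalRing.of_surjective' _ Ideal.Quotient.mk_surjective
  obtain ⟨p', -, hp'⟩ := LocCoh.exists_prime_coheight_one (IsLocalRing.maximalIdeal (R ⧸ I))
    (IsLocalRing.maximalIdeal.isMaximal _).ne_top fun q hq hle => by
      haveI := hq.1.1
      have heq : q = IsLocalRing.maximalIdeal (R ⧸ I) :=
        le_antisymm (IsLocalRing.le_maximalIdeal hq.1.1.ne_top) hle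
      have h0 : (IsLocalRing.maximalIdeal (R ⧸ I)).height = 0 := by
        rw [← heq]
        exact Ideal.height_eq_zero_iff.mpr hq
      rw [← IsLocalRing.maximalIdeal_height_eq_ringKrullDim, h0] at hI
      exact lt_irrefl _ hI
  let p := p'.asIdeal.comap (Ideal.Quotient.mk I)
  have hdim : ringKrullDim (R ⧸ p) = 1 := by
    rw [← hp']
    exact ringKrullDim_eq_of_ringEquiv
      ((Ideal.quotEquivOfEq (show p = RingHom.ker ((Ideal.Quotient.mk p'.asIdeal).comp (Ideal.Quotient.mk I)) by
        rw [← RingHom.comap_ker, Ideal.mk_ker])).trans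
        (RingHom.quotientKerEquivOfSurjective (Ideal.Quotient.mk_surjective.comp Ideal.Quotient.mk_surjective)))
  have hIp : I ≤ p := fun x hx => by
    show Ideal.Quotient.mk I x ∈ p'.asIdeal
    rw [Ideal.Quotient.eq_zero_iff_mem.mpr hx]
    exact Submodule.zero_mem _
  have hvan := h p hdim
  have key := LocCoh.subsingleton_H_of_le_jacobson k hd.le I p hIp
    (by rw [IsLocalRing.jacobson_eq_maximalIdeal ⊥ bot_ne_top]
        exact IsLocalRing.le_maximalIdeal (Ideal.IsPrime.ne_top inferInstance))
    fun M i hi => LocCoh.subsingleton_H_ge_dim hd R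
      (fun q _ _ hq => by rw [Module.support_of_algebra]; intro x hx; simp_all) hvan M (i + 1) (by omega)
  exact key (ModuleCat.of R R) k le_rfl

end Groth.Agent.LocCohSweep
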