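import Groth.Agent.LocCoh.DirectedColim
import Groth.Agent.LocCoh.CohDim
import Groth.Agent.LocCoh.Derived

/-!
# Local cohomology in the top degree is `M ↦ M ⊗ H^d_I(R)`
-/

universe u

open CategoryTheory Limits TensorProduct

namespace Groth.Agent.LocCohSweep.TopRightExact

variable {R : Type u} [CommRing R] (I : Ideal R) (d : ℕ)

/-- Functoriality of `H^d_I` on linear maps. -/
noncomputable abbrev hmap {M N : Type u} [AddCommGroup M] [Module R M] [AddCommGroup N] [Module R N]
    (f : M →ₗ[R] N) : _root_.LocCoh.H I d M →ₗ[R] _root_.LocCoh.H I d N :=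
  ((localCohomology I d).map (ModuleCat.ofHom f)).hom

variable {I d}
variable {M N P : Type u} [AddCommGroup M] [Module R M] [AddCommGroup N] [Module R N]
  [AddCommGroup P] [Module R P]

theorem hmap_comp (g : N →ₗ[R] P) (f : M →ₗ[R] N) :
    hmap I d (g ∘ₗ f) = hmap I d g ∘ₗ hmap I d f :=
  congrArg ModuleCat.Hom.hom ((localCohomology I d).map_comp (ModuleCat.ofHom f) (ModuleCat.ofHom g))

theorem hmap_add (f g : M →ₗ[R] N) : hmap I d (f + g) = hmap I d f + hmap I d g :=
  congrArg ModuleCat.Hom.hom ((localCohomology I d).map_add (f := ModuleCat.ofHom f)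
    (g := ModuleCat.ofHom g))

theorem hmap_id : hmap I d (LinearMap.id : M →ₗ[R] M) = LinearMap.id :=
  congrArg ModuleCat.Hom.hom ((localCohomology I d).map_id (ModuleCat.of R M))

theorem hmap_smul (r : R) (f : M →ₗ[R] N) : hmap I d (r • f) = r • hmap I d f := by
  have h : r • f = (r • LinearMap.id) ∘ₗ f := by ext; simp
  rw [h, hmap_comp]
  refine LinearMap.ext fun x => ?_
  exact LocCoh.map_smul_id r (ModuleCat.of R N) _

theorem hmap_zero : hmap I d (0 : M →ₗ[R] N) = 0 := by
  have h := hmap_smul (I := I) (d := d) (0 : R) (0 : M →ₗ[R] N)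
  rwa [zero_smul, zero_smul] at h

theorem hmap_sum {ι : Type*} (s : Finset ι) (f : ι → M →ₗ[R] N) :
    hmap I d (∑ j ∈ s, f j) = ∑ j ∈ s, hmap I d (f j) := by
  classical
  induction s using Finset.induction with
  | empty => rw [Finset.sum_empty, Finset.sum_empty, hmap_zero]
  | insert a s ha ih => rw [Finset.sum_insert ha, Finset.sum_insert ha, hmap_add, ih]

variable (I d M) in
/-- The natural map `M ⊗ H^d_I(R) → H^d_I(M)`. -/
noncomputable def θ : M ⊗[R] _root_.LocCoh.H I d R →ₗ[R] _root_.LocCoh.H I d M :=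
  TensorProduct.lift
    { toFun := fun m => hmap I d (LinearMap.toSpanSingleton R M m)
      map_add' := fun m m' => by
        rw [← hmap_add]
        congr 1
        ext
        simp
      map_smul' := fun r m => by
        rw [RingHom.id_apply, ← hmap_smul]
        congr 1
        ext
        simp }

theorem θ_tmul (m : M) (x : _root_.LocCoh.H I d R) :
    θ I d M (m ⊗ₜ x) = hmap I d (LinearMap.toSpanSingleton R M m) x :=
  rfl

theorem θ_naturality (f : M →ₗ[R] N) (z : M ⊗[R] _root_.LocCoh.H I d R) :
    θ I d N (f.rTensor _ z) = hmap I d f (θ I d M z) := by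
  induction z using TensorProduct.induction_on with
  | zero => simp
  | tmul m x =>
    rw [LinearMap.rTensor_tmul, θ_tmul, θ_tmul, ← LinearMap.comp_apply (hmap I d f), ← hmap_comp]
    congr 2
    ext
    simp
  | add a b ha hb => simp [ha, hb]

theorem surjective_hmap {k : ℕ} (hcd : _root_.LocCoh.CdLE R I k) (f : M →ₗ[R] N)
    (hf : Function.Surjective f) : Function.Surjective (hmap I k f) := fun x => by
  have := hcd (LinearMap.ker f) (k + 1) (Nat.lt_succ_self k)
  exact (LocCoh.exact₃ (I := I) (i := k) (LinearMap.shortExact_shortComplexKer hf) x).mp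
    (this.elim _ _)

section Free

variable [IsNoetherianRing R] (ι : Type u)

/-- The diagram of finitely supported free submodules. -/
noncomputable def supp : Finset ι ⥤ ModuleCat.{u} R where
  obj s := ModuleCat.of R (Finsupp.supported R R (s : Set ι))
  map {s t} h := ModuleCat.ofHom (Submodule.inclusion
    (Finsupp.supported_mono (Finset.coe_subset.mpr (leOfHom h))))

/-- The free module as their union. -/
noncomputable def suppCocone : Cocone (supp (R := R) ι) where
  pt := ModuleCat.of R (ι →₀ R)
  ι :=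
    { app := fun s => ModuleCat.ofHom (Finsupp.supported R R (s : Set ι)).subtype
      naturality := fun _ _ _ => rfl }

omit [IsNoetherianRing R] in
theorem isElCol_supp : LocCoh.DirectedColim.IsElCol (suppCocone (R := R) ι) where
  surj x := by
    exact ⟨(x : ι →₀ R).support,
      ⟨(x : ι →₀ R), (Finsupp.mem_supported R (x : ι →₀ R)).mpr subset_rfl⟩, rfl⟩
  eventually s y hy := ⟨s, 𝟙 s, by
    rw [CategoryTheory.Functor.map_id]
    exact Subtype.ext hy⟩

variable {ι}

theorem bijective_θ_free (ι : Type u) : Function.Bijective (θ I d (ι →₀ R)) := by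
  classical
  constructor
  · rw [injective_iff_map_eq_zero]
    intro z hz
    apply (TensorProduct.finsuppScalarLeft R (_root_.LocCoh.H I d R) ι).injective
    rw [map_zero]
    ext k
    have key : ∀ w : (ι →₀ R) ⊗[R] _root_.LocCoh.H I d R,
        TensorProduct.finsuppScalarLeft R (_root_.LocCoh.H I d R) ι w k =
          hmap I d (Finsupp.lapply k) (θ I d (ι →₀ R) w) := by
      intro w
      induction w using TensorProduct.induction_on with
      | zero => simp
      | tmul m x =>
        rw [TensorProduct.finsuppScalarLeft_apply_tmul_apply, θ_tmul, ← LinearMap.comp_apply, ← hmap_comp,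
          show Finsupp.lapply k ∘ₗ LinearMap.toSpanSingleton R (ι →₀ R) m =
            m k • (LinearMap.id : R →ₗ[R] R) by ext; simp, hmap_smul, hmap_id]
        rfl
      | add a b ha hb => simp [ha, hb]
    rw [key z, hz, map_zero]
    rfl
  · intro y
    obtain ⟨s, w, hw⟩ := (LocCoh.DirectedColim.isElCol_localCohomology I d (isElCol_supp ι)).surj y
    let A := Finsupp.supported R R (s : Set ι)
    have hsub : A.subtype = ∑ j ∈ s,
        LinearMap.toSpanSingleton R (ι →₀ R) (Finsupp.single j 1) ∘ₗ
          (Finsupp.lapply j ∘ₗ A.subtype) := by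
      refine LinearMap.ext fun a => ?_
      simp only [LinearMap.sum_apply, LinearMap.comp_apply, Submodule.subtype_apply,
        Finsupp.lapply_apply, LinearMap.toSpanSingleton_apply, Finsupp.smul_single, smul_eq_mul,
        mul_one]
      conv_lhs => rw [← Finsupp.sum_single (a : ι →₀ R)]
      exact Finsupp.sum_of_support_subset _ ((Finsupp.mem_supported R _).mp a.2) _ (fun j _ => by simp)
    suffices h : ∀ w' : _root_.LocCoh.H I d A,
        ∃ z, θ I d (ι →₀ R) z = hmap I d A.subtype w' by
      obtain ⟨z, hz⟩ := h w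
      exact ⟨z, hz.trans hw⟩
    intro w'
    refine ⟨∑ j ∈ s, Finsupp.single j 1 ⊗ₜ[R] hmap I d (Finsupp.lapply j ∘ₗ A.subtype) w', ?_⟩
    rw [map_sum]
    conv_rhs => rw [hsub, hmap_sum, LinearMap.sum_apply]
    refine Finset.sum_congr rfl fun j _ => ?_
    rw [θ_tmul, ← LinearMap.comp_apply, ← hmap_comp]

end Free

variable [IsNoetherianRing R]

theorem bijective_θ {k : ℕ} (hcd : _root_.LocCoh.CdLE R I k) (M : Type u) [AddCommGroup M]
    [Module R M] : Function.Bijective (θ I k M) := by
  let π : (M →₀ R) →ₗ[R] M := Finsupp.linearCombination R id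
  have hπ : Function.Surjective π := Finsupp.linearCombination_id_surjective R M
  let π' : (LinearMap.ker π →₀ R) →ₗ[R] LinearMap.ker π := Finsupp.linearCombination R id
  have hπ' : Function.Surjective π' := Finsupp.linearCombination_id_surjective R _
  refine ⟨(injective_iff_map_eq_zero _).mpr fun z hz => ?_, fun y => ?_⟩
  · obtain ⟨w, rfl⟩ := LinearMap.rTensor_surjective _ hπ z
    rw [θ_naturality] at hz
    obtain ⟨v₀, hv₀⟩ := (LocCoh.exact₂ (I := I) (i := k)
      (LinearMap.shortExact_shortComplexKer hπ) (θ I k (M →₀ R) w)).mp hz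
    change hmap I k (LinearMap.ker π).subtype v₀ = _ at hv₀
    obtain ⟨v₁, rfl⟩ := surjective_hmap hcd π' hπ' v₀
    obtain ⟨v, rfl⟩ := (bijective_θ_free _).2 v₁
    rw [← θ_naturality, ← θ_naturality] at hv₀
    rw [← (bijective_θ_free M).1 hv₀, ← LinearMap.rTensor_comp_apply]
    have h0 : π ∘ₗ (LinearMap.ker π).subtype = 0 := LinearMap.comp_ker_subtype π
    rw [h0, LinearMap.rTensor_zero, LinearMap.zero_apply]
  · obtain ⟨y₀, rfl⟩ := surjective_hmap hcd π hπ y
    obtain ⟨w, rfl⟩ := (bijective_θ_free M).2 y₀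
    exact ⟨π.rTensor _ w, θ_naturality π w⟩

/-- `M ⊗ H^k_I(R) ≅ H^k_I(M)`. -/
noncomputable def θEquiv {k : ℕ} (hcd : _root_.LocCoh.CdLE R I k) (M : Type u) [AddCommGroup M]
    [Module R M] : M ⊗[R] _root_.LocCoh.H I k R ≃ₗ[R] _root_.LocCoh.H I k M :=
  LinearEquiv.ofBijective (θ I k M) (bijective_θ hcd M)

end Groth.Agent.LocCohSweep.TopRightExact
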